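import Groth.Prelude.Def_BigSite
import Groth.Agent.AdeqShLib.ZarCmp
import Groth.Agent.SiteBase.ExtAdjoint
import Groth.Agent.KInj.Restrict

/-!
# Big sites and small sites: exactness of restriction and comparison of cohomology
-/

set_option autoImplicit false
set_option backward.isDefEq.respectTransparency false
set_option backward.isDefEq.respectTransparency.types false
set_option maxHeartbeats 800000
universe w w' v₁ v₂ u₁ u₂ u

namespace Groth.Agent.BigSiteLib

open CategoryTheory Limits AlgebraicGeometry Opposite TopologicalSpace Abelian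

section Lan

variable {C : Type (u + 1)} [Category.{u} C] {D : Type (u + 1)} [Category.{u} D]

set_option backward.defeqAttrib.useBackward true in
/-- Evaluation of a left Kan extension as a colimit over costructured arrows. -/
noncomputable def lanEvalIsoColim {E : Type (u + 2)} [Category.{u + 1} E] (F : Cᵒᵖ ⥤ Dᵒᵖ) (X : Dᵒᵖ)
    [∀ H : Cᵒᵖ ⥤ E, F.HasLeftKanExtension H] [∀ X : Dᵒᵖ, HasColimitsOfShape (CostructuredArrow F X) E] :
    F.lan ⋙ (evaluation Dᵒᵖ E).obj X ≅
      (Functor.whiskeringLeft _ _ E).obj (CostructuredArrow.proj F X) ⋙ colim :=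
  NatIso.ofComponents (fun G =>
    IsColimit.coconePointUniqueUpToIso
    (Functor.isPointwiseLeftKanExtensionLeftKanExtensionUnit F G X)
    (colimit.isColimit _)) (fun {G₁ G₂} φ => by
      apply (Functor.isPointwiseLeftKanExtensionLeftKanExtensionUnit F G₁ X).hom_ext
      intro T
      have h₁ := fun (G : Cᵒᵖ ⥤ E) => IsColimit.comp_coconePointUniqueUpToIso_hom
        (Functor.isPointwiseLeftKanExtensionLeftKanExtensionUnit F G X) (colimit.isColimit _) T
      have h₂ := congr_app (F.lanUnit.naturality φ) T.left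
      dsimp at h₁ h₂ ⊢
      simp only [Category.assoc] at h₁ ⊢
      simp only [Functor.lan, Functor.lanUnit] at h₂ ⊢
      rw [reassoc_of% h₁, NatTrans.naturality_assoc, ← reassoc_of% h₂, h₁,
        ι_colimMap, Functor.whiskerLeft_app]
      rfl)

theorem preservesFiniteLimits_lan_ab (F : C ⥤ D) [RepresentablyFlat F]
    [∀ H : Cᵒᵖ ⥤ AddCommGrpCat.{u + 1}, F.op.HasLeftKanExtension H] :
    PreservesFiniteLimits (F.op.lan : _ ⥤ Dᵒᵖ ⥤ AddCommGrpCat.{u + 1}) := by
  apply preservesFiniteLimits_of_preservesFiniteLimitsOfSize.{u + 1}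
  intro J _ _
  apply preservesLimitsOfShape_of_evaluation (F.op.lan : (Cᵒᵖ ⥤ AddCommGrpCat.{u + 1}) ⥤ Dᵒᵖ ⥤ AddCommGrpCat.{u + 1}) J
  intro K
  haveI : IsFiltered (CostructuredArrow F.op K) :=
    IsFiltered.of_equivalence (structuredArrowOpEquivalence F (unop K))
  haveI : IsFiltered (AsSmall.{u + 1} (CostructuredArrow F.op K)) := IsFiltered.of_equivalence AsSmall.equiv
  haveI : PreservesColimitsOfShape (CostructuredArrow F.op K) (forget AddCommGrpCat.{u + 1}) :=
    preservesColimitsOfShape_of_equiv (AsSmall.equiv (C := CostructuredArrow F.op K)).symm _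
  exact preservesLimitsOfShape_of_natIso (lanEvalIsoColim (E := AddCommGrpCat.{u + 1}) F.op K).symm

end Lan

section Etale

variable (K : Precoverage Scheme.{u}) (S : Scheme.{u}) [BigSite.AEtCont K S]

theorem representablyFlat_etIncl : RepresentablyFlat (EtFppf.a S) := by
  haveI : PreservesFiniteLimits (EtFppf.a S) := inferInstanceAs (PreservesFiniteLimits (Scheme.Etale.forget S))
  haveI : HasFiniteLimits S.Etale := inferInstance
  exact flat_of_preservesFiniteLimits _

theorem preservesFiniteLimits_piEtPull : PreservesFiniteLimits (BigSite.piEtPull K S) := by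
  haveI := representablyFlat_etIncl S
  haveI : PreservesFiniteLimits ((EtFppf.a S).op.lan : _ ⥤ (Over S)ᵒᵖ ⥤ AddCommGrpCat.{u + 1}) :=
    preservesFiniteLimits_lan_ab _
  exact Functor.sheafPullbackConstruction.preservesFiniteLimits (EtFppf.a S) AddCommGrpCat.{u + 1} _ _

theorem preservesMonomorphisms_piEtPull : (BigSite.piEtPull K S).PreservesMonomorphisms :=
  haveI := preservesFiniteLimits_piEtPull K S
  inferInstance

theorem injective_resEt (I : BigSite.Ab K S) [Injective I] : Injective ((BigSite.resEt K S).obj I) :=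
  haveI := preservesMonomorphisms_piEtPull K S
  Injective.injective_of_adjoint (BigSite.piEtAdj K S) I

theorem preservesFiniteColimits_resEt [BigSite.AEtCocont K S] : PreservesFiniteColimits (BigSite.resEt K S) :=
  haveI : PreservesColimitsOfSize.{0, 0} (BigSite.resEt K S) := (BigSite.iEtAdj K S).leftAdjoint_preservesColimits
  PreservesColimitsOfSize.preservesFiniteColimits _

end Etale

section Ext

variable {A : Type u₁} [Category.{v₁} A] [Abelian A] [HasExt.{w} A] [EnoughInjectives A]
  {B : Type u₂} [Category.{v₂} B] [Abelian B] [HasExt.{w} B]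

/-- `Ext(Z, G F) ≃ Ext(Z', F)` for an exact right adjoint `G` of a monomorphism preserving `L` and
`L Z ≅ Z'`. -/
theorem nonempty_ext_equiv {G : A ⥤ B} {L : B ⥤ A} (adj : L ⊣ G) [G.Additive] [PreservesFiniteColimits G]
    [L.PreservesMonomorphisms] {Z : B} {Z' : A} (e : L.obj Z ≅ Z') (F : A) (n : ℕ) :
    Nonempty (Ext.{w} Z (G.obj F) n ≃+ Ext.{w} Z' F n) := by
  haveI : PreservesLimitsOfSize.{0, 0} G := adj.rightAdjoint_preservesLimits
  haveI : PreservesFiniteLimits G := PreservesLimitsOfSize.preservesFiniteLimits _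
  refine ⟨(Groth.Agent.SiteBase.extAdjEquiv adj Z (fun I _ k => ?_) F n).symm.trans
    (((extFunctor.{w} n).mapIso e.symm.op).app F).addCommGroupIsoToAddEquiv⟩
  haveI : Injective (G.obj I) := Injective.injective_of_adjoint adj I
  exact Ext.subsingleton_of_injective Z (G.obj I) k

end Ext

section H

variable {C : Type u₁} [Category.{v₁} C] {D : Type u₂} [Category.{v₂} D] {J : GrothendieckTopology C}
  {K : GrothendieckTopology D} [HasSheafify J AddCommGrpCat.{w}] [HasSheafify K AddCommGrpCat.{w}]
  [HasExt.{w'} (Sheaf J AddCommGrpCat.{w})] [HasExt.{w'} (Sheaf K AddCommGrpCat.{w})]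
  [EnoughInjectives (Sheaf K AddCommGrpCat.{w})]

/-- Cohomology of a sheaf and of its restriction along a continuous functor respecting terminal objects. -/
theorem nonempty_H_pushforward_equiv (F : C ⥤ D) [F.IsContinuous J K]
    {L : Sheaf J AddCommGrpCat.{w} ⥤ Sheaf K AddCommGrpCat.{w}}
    (adj : L ⊣ F.sheafPushforwardContinuous AddCommGrpCat.{w} J K) [L.PreservesMonomorphisms]
    [(F.sheafPushforwardContinuous AddCommGrpCat.{w} J K).Additive]
    [PreservesFiniteColimits (F.sheafPushforwardContinuous AddCommGrpCat.{w} J K)]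
    {T : C} (hT : IsTerminal T) {T' : D} (hT' : IsTerminal T') (e : F.obj T ≅ T')
    (X : Sheaf K AddCommGrpCat.{w}) (n : ℕ) :
    Nonempty (Sheaf.H ((F.sheafPushforwardContinuous AddCommGrpCat.{w} J K).obj X) n ≃+ Sheaf.H X n) := by
  let i : F.sheafPushforwardContinuous AddCommGrpCat.{w} J K ⋙ (sheafSections J AddCommGrpCat.{w}).obj (op T) ≅
      (sheafSections K AddCommGrpCat.{w}).obj (op T') :=
    NatIso.ofComponents (fun F' => F'.obj.mapIso e.symm.op) (fun φ => (φ.hom.naturality _).symm)
  let c := Adjunction.leftAdjointUniq (((constantSheafAdj J AddCommGrpCat.{w} hT).comp adj).ofNatIsoRight i)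
    (constantSheafAdj K AddCommGrpCat.{w} hT')
  exact nonempty_ext_equiv adj (c.app (AddCommGrpCat.of (ULift ℤ))) X n

end H

section Zariski

variable (S : Scheme.{u})

theorem isCocontinuous_zarIncl :
    (BigSite.zarIncl S).IsCocontinuous (Opens.grothendieckTopology S) (QuotSh.J Scheme.zariskiPrecoverage S) where
  cover_lift {U} R hR := by
    have h : Sieve.overEquiv _ R ∈ Scheme.zariskiTopology ((BigSite.zarIncl S).obj U).left := hR
    obtain ⟨𝒰, hle⟩ := Scheme.exists_cover_of_mem_grothendieckTopology h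
    intro x hx
    let p : ((BigSite.zarIncl S).obj U).left := ⟨x, hx⟩
    obtain ⟨y, hy⟩ := 𝒰.covers p
    haveI : IsOpenImmersion (𝒰.f (𝒰.idx p)) := 𝒰.map_prop _
    haveI : IsOpenImmersion ((BigSite.zarIncl S).obj U).hom := inferInstanceAs (IsOpenImmersion U.ι)
    let g := 𝒰.f (𝒰.idx p) ≫ ((BigSite.zarIncl S).obj U).hom
    haveI : IsOpenImmersion g := inferInstanceAs (IsOpenImmersion (_ ≫ _))
    have hWU : g.opensRange ≤ U := by
      rintro _ ⟨z, rfl⟩
      exact ((𝒰.f (𝒰.idx p)) z).2
    let k : (BigSite.zarIncl S).obj g.opensRange ⟶ Over.mk g :=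
      Over.homMk (IsOpenImmersion.lift g g.opensRange.ι (Scheme.Opens.range_ι g.opensRange).le)
        (IsOpenImmersion.lift_fac _ _ _)
    refine ⟨g.opensRange, homOfLE hWU, ?_, y, ?_⟩
    · show R.arrows ((BigSite.zarIncl S).map (homOfLE hWU))
      rw [Groth.Agent.AdeqShLib.zarIncl_hom_ext S ((BigSite.zarIncl S).map (homOfLE hWU))
        (k ≫ Over.homMk (𝒰.f (𝒰.idx p)))]
      exact R.downward_closed ((Sieve.overEquiv_iff R _).1 (hle _ _ ⟨𝒰.idx p⟩)) k
    · exact congrArg ((BigSite.zarIncl S).obj U).hom hy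

variable [BigSite.ZarCont Scheme.zariskiPrecoverage S]

theorem preservesFiniteColimits_resZar :
    PreservesFiniteColimits (BigSite.resZar Scheme.zariskiPrecoverage S) :=
  haveI := isCocontinuous_zarIncl S
  haveI : PreservesColimitsOfSize.{0, 0} (BigSite.resZar Scheme.zariskiPrecoverage S) :=
    ((BigSite.zarIncl S).sheafAdjunctionCocontinuous AddCommGrpCat.{u + 1} (Opens.grothendieckTopology S)
    (QuotSh.J Scheme.zariskiPrecoverage S)).leftAdjoint_preservesColimits
  PreservesColimitsOfSize.preservesFiniteColimits _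

theorem preservesMonomorphisms_piZarPull :
    (BigSite.piZarPull Scheme.zariskiPrecoverage S).PreservesMonomorphisms := by
  haveI := Groth.Agent.AdeqShLib.representablyFlat_zarIncl S
  haveI : PreservesFiniteLimits ((BigSite.zarIncl S).op.lan : _ ⥤ (Over S)ᵒᵖ ⥤ AddCommGrpCat.{u + 1}) :=
    Groth.Agent.AdeqShLib.preservesFiniteLimits_lan_ab _
  haveI : PreservesFiniteLimits (BigSite.piZarPull Scheme.zariskiPrecoverage S) :=
    Functor.sheafPullbackConstruction.preservesFiniteLimits (BigSite.zarIncl S) AddCommGrpCat.{u + 1} _ _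
  infer_instance

end Zariski

end Groth.Agent.BigSiteLib
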