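import Groth.Prelude.Def_BigSite
import Groth.Agent.SmSrc.Lift
import Groth.Agent.Hensel.FiniteEtale

/-!
# Etale and smooth morphisms lift along closed immersions; almost cocontinuity of base change
-/

set_option autoImplicit false
set_option backward.isDefEq.respectTransparency false
set_option backward.isDefEq.respectTransparency.types false
set_option maxHeartbeats 800000
universe u

namespace Groth.Agent.BigSiteLib

open CategoryTheory Limits AlgebraicGeometry Opposite

variable (P : MorphismProperty Scheme.{u})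

/-- Morphisms with the property `P` lift, locally on the source, along closed immersions. -/
def LiftsAlongClosed : Prop :=
  ∀ {Z V W : Scheme.{u}} (i : Z ⟶ V) [IsClosedImmersion i] (h : W ⟶ Z), P h → ∀ w : W,
    ∃ (V' : Scheme.{u}) (p : V' ⟶ V) (W₀ : Scheme.{u}) (ι : W₀ ⟶ W) (k : W₀ ⟶ V'),
      P p ∧ IsPullback k (ι ≫ h) p i ∧ w ∈ Set.range ι

/-- The ring-theoretic form of lifting along surjections. -/
def LiftsAlongSurjective : Prop :=
  ∀ {A B C : Type u} [CommRing A] [CommRing B] [CommRing C] (π : A →+* B), Function.Surjective π →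
    ∀ ψ : B →+* C, P (Spec.map (CommRingCat.ofHom ψ)) → ∀ x : PrimeSpectrum C,
      ∃ (r : C) (A' : Type u) (_ : CommRing A') (θ : A →+* A') (φ : A' →+* Localization.Away r),
        r ∉ x.asIdeal ∧ P (Spec.map (CommRingCat.ofHom θ)) ∧ Function.Surjective φ ∧
        φ.comp θ = ((algebraMap C (Localization.Away r)).comp ψ).comp π ∧
        RingHom.ker φ ≤ (RingHom.ker π).map θ

theorem isPushout_of_surjective {A B A' C : Type u} [CommRing A] [CommRing B] [CommRing A'] [CommRing C]
    {π : A →+* B} {θ : A →+* A'} {φ : A' →+* C} {ψ : B →+* C} (hπ : Function.Surjective π)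
    (hφ : Function.Surjective φ) (w : φ.comp θ = ψ.comp π) (hker : RingHom.ker φ ≤ (RingHom.ker π).map θ) :
    IsPushout (CommRingCat.ofHom θ) (CommRingCat.ofHom π) (CommRingCat.ofHom φ) (CommRingCat.ofHom ψ) := by
  refine ⟨⟨?_⟩, ⟨PushoutCocone.IsColimit.mk _ (fun s => CommRingCat.ofHom
    (RingHom.liftOfSurjective φ hφ ⟨s.inl.hom, ?_⟩)) (fun s => ?_) (fun s => ?_) (fun s m h₁ _ => ?_)⟩⟩
  · ext a
    exact RingHom.congr_fun w a
  · refine hker.trans (Ideal.map_le_iff_le_comap.2 fun a ha => ?_)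
    have e := RingHom.congr_fun (congrArg CommRingCat.Hom.hom s.condition) a
    exact e.trans ((congrArg s.inr.hom (RingHom.mem_ker.1 ha)).trans (map_zero _))
  · ext a
    exact RingHom.liftOfSurjective_comp_apply φ hφ _ a
  · ext b
    obtain ⟨a, rfl⟩ := hπ b
    have e := RingHom.congr_fun (congrArg CommRingCat.Hom.hom s.condition) a
    refine Eq.trans ?_ e
    exact (congrArg _ (RingHom.congr_fun w a).symm).trans (RingHom.liftOfSurjective_comp_apply φ hφ _ (θ a))
  · ext a
    obtain ⟨a', rfl⟩ := hφ a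
    refine (RingHom.congr_fun (congrArg CommRingCat.Hom.hom h₁) a').trans (Eq.symm ?_)
    exact RingHom.liftOfSurjective_comp_apply φ hφ _ a'

theorem liftsAlongClosed [P.IsStableUnderComposition]
    (hopen : ∀ {X Y : Scheme.{u}} (j : X ⟶ Y), IsOpenImmersion j → P j)
    (hloc : ∀ {X Y : Scheme.{u}} (h : X ⟶ Y), P h → ∀ {U : Y.Opens}, IsAffineOpen U → ∀ {V : X.Opens},
      IsAffineOpen V → ∀ e : V ≤ h ⁻¹ᵁ U, P (Spec.map (h.appLE U V e)))
    (hring : LiftsAlongSurjective P) : LiftsAlongClosed P := by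
  intro Z V W i _ h hh w
  obtain ⟨Ω, hΩ, hzΩ, -⟩ := exists_isAffineOpen_mem_and_subset (X := V) (x := i (h w)) (U := ⊤) trivial
  have hZ₀ : IsAffineOpen (i ⁻¹ᵁ Ω) := hΩ.preimage i
  obtain ⟨W₁, hW₁, hwW, hW₁Z⟩ := exists_isAffineOpen_mem_and_subset (x := w) (U := h ⁻¹ᵁ (i ⁻¹ᵁ Ω)) hzΩ
  let ψ := h.appLE (i ⁻¹ᵁ Ω) W₁ hW₁Z
  let π := i.app Ω
  have hwr : w ∈ Set.range hW₁.fromSpec := by rw [hW₁.range_fromSpec]; exact hwW
  obtain ⟨x, hx⟩ := hwr
  obtain ⟨r, A', _, θ, φ, hr, hθ, hφ, hw, hker⟩ :=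
    hring π.hom (i.app_surjective Ω hΩ) ψ.hom (hloc h hh hZ₀ hW₁ hW₁Z) x
  let a : CommRingCat.of Γ(W, W₁) ⟶ CommRingCat.of (Localization.Away r) := CommRingCat.ofHom (algebraMap _ _)
  refine ⟨Spec (CommRingCat.of A'), Spec.map (CommRingCat.ofHom θ) ≫ hΩ.fromSpec,
    Spec (CommRingCat.of (Localization.Away r)), Spec.map a ≫ hW₁.fromSpec, Spec.map (CommRingCat.ofHom φ),
    P.comp_mem _ _ hθ (hopen _ inferInstance), ?_, ?_⟩
  · have h1 := isPullback_SpecMap_of_isPushout _ _ _ _ (isPushout_of_surjective (i.app_surjective Ω hΩ) hφ hw hker)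
    have e2 : Spec.map π ≫ hΩ.fromSpec = hZ₀.fromSpec ≫ i := by
      have := hΩ.SpecMap_appLE_fromSpec i hZ₀ le_rfl
      rwa [Scheme.Hom.appLE_eq_app] at this
    have h2 : IsPullback (Spec.map π) hZ₀.fromSpec hΩ.fromSpec i :=
      IsOpenImmersion.isPullback _ _ _ _ e2.symm (by rw [hΩ.opensRange_fromSpec, hZ₀.opensRange_fromSpec])
    have e3 : (Spec.map a ≫ hW₁.fromSpec) ≫ h = Spec.map (ψ ≫ a) ≫ hZ₀.fromSpec := by
      rw [Category.assoc, ← hZ₀.SpecMap_appLE_fromSpec h hW₁ hW₁Z, Spec.map_comp, Category.assoc]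
    rw [e3]
    exact h1.paste_vert h2
  · obtain ⟨y, hy⟩ : x ∈ Set.range (PrimeSpectrum.comap (algebraMap Γ(W, W₁) (Localization.Away r))) := by
      rw [PrimeSpectrum.localization_away_comap_range _ r]
      exact hr
    exact ⟨y, (congrArg hW₁.fromSpec hy).trans hx⟩

theorem liftsAlongSurjective_etale : LiftsAlongSurjective (@Etale : MorphismProperty Scheme.{u}) := by
  intro A B C _ _ _ π hπ ψ hψ x
  letI := π.toAlgebra
  let ψ' : B →+* Localization.Away (1 : C) := (algebraMap C (Localization.Away (1 : C))).comp ψ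
  let e : A ⧸ RingHom.ker π →+* B := (RingHom.quotientKerEquivOfSurjective hπ).toRingHom
  have hψ' : (ψ'.comp e).Etale :=
    RingHom.Etale.stableUnderComposition e ψ'
      (RingHom.Etale.respectsIso.2 (RingHom.id _) (RingHom.quotientKerEquivOfSurjective hπ)
        (RingHom.Etale.containsIdentities _))
      (RingHom.Etale.stableUnderComposition ψ _ ((HasRingHomProperty.Spec_iff (P := @Etale)).1 hψ)
        ((RingHom.etale_algebraMap).2 (Algebra.Etale.of_isLocalizationAway (1 : C))))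
  letI := (ψ'.comp π).toAlgebra
  letI := (ψ'.comp e).toAlgebra
  haveI : IsScalarTower A (A ⧸ RingHom.ker π) (Localization.Away (1 : C)) :=
    IsScalarTower.of_algebraMap_eq fun a => congrArg ψ' (RingHom.quotientKerEquivOfSurjective_apply_mk hπ a).symm
  haveI : Algebra.Etale (A ⧸ RingHom.ker π) (Localization.Away (1 : C)) := hψ'
  obtain ⟨A', _, _, het, Φ, hΦ, hker⟩ :=
    Groth.Agent.Hensel.exists_etale_lift_of_quotient (A := A) (I := RingHom.ker π) (Localization.Away (1 : C))
  refine ⟨1, A', inferInstance, algebraMap A A', Φ.toRingHom, fun h1 => x.isPrime.ne_top ((Ideal.eq_top_iff_one _).2 h1),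
    (HasRingHomProperty.Spec_iff (P := @Etale)).2 (RingHom.etale_algebraMap.2 het), hΦ, ?_, hker.le⟩
  exact RingHom.ext fun a => Φ.commutes a

theorem liftsAlongSurjective_smooth : LiftsAlongSurjective (@Smooth : MorphismProperty Scheme.{u}) := by
  intro A B C _ _ _ π hπ ψ hψ x
  obtain ⟨s, hs, hst⟩ := RingHom.smooth_iff_locally_isStandardSmooth.1
    ((HasRingHomProperty.Spec_iff (P := @Smooth)).1 hψ)
  obtain ⟨r, hrs, hr⟩ : ∃ r ∈ s, r ∉ x.asIdeal := by
    by_contra hh
    push_neg at hh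
    exact x.isPrime.ne_top (top_le_iff.1 (hs ▸ Ideal.span_le.2 hh))
  let ψ' : B →+* Localization.Away r := (algebraMap C (Localization.Away r)).comp ψ
  letI := π.toAlgebra
  letI := ψ'.toAlgebra
  letI := (ψ'.comp π).toAlgebra
  haveI : IsScalarTower A B (Localization.Away r) := IsScalarTower.of_algebraMap_eq fun a => rfl
  haveI : Algebra.IsStandardSmooth B (Localization.Away r) := hst r hrs
  obtain ⟨A', _, _, Φ, hsm, hΦ, hker⟩ :=
    Groth.Agent.EtDescent.exists_smooth_lift A B (Localization.Away r) hπ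
  exact ⟨r, A', inferInstance, algebraMap A A', Φ.toRingHom, hr,
    (HasRingHomProperty.Spec_iff (P := @Smooth)).2 (RingHom.smooth_algebraMap.2 hsm), hΦ,
    RingHom.ext fun a => Φ.commutes a, hker.le⟩

theorem isAlmostCocontinuous_pullback {X Y : Scheme.{u}} (f : X ⟶ Y) [IsClosedImmersion f]
    [P.IsMultiplicative] [P.IsStableUnderBaseChange]
    (hopen : ∀ {X Y : Scheme.{u}} (j : X ⟶ Y), IsOpenImmersion j → P j) (hlift : LiftsAlongClosed P) :
    BigSite.IsAlmostCocontinuous (Over.pullback f) (QuotSh.J (Scheme.precoverage P) Y)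
      (QuotSh.J (Scheme.precoverage P) X) := by
  intro U R hR
  haveI : IsClosedImmersion (pullback.fst U.hom f) := MorphismProperty.pullback_fst U.hom f inferInstance
  have hR' : Sieve.overEquiv _ R ∈ Scheme.grothendieckTopology P ((Over.pullback f).obj U).left := hR
  obtain ⟨𝒰, hle⟩ := Scheme.exists_cover_of_mem_grothendieckTopology hR'
  choose j y hy using fun z : ↥(pullback U.hom f) => 𝒰.exists_eq z
  have hl := fun z => hlift (pullback.fst U.hom f) (𝒰.f (j z)) (𝒰.map_prop _) (y z)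
  choose V' p W₀ ι k hp sq hmem using hl
  let V₀ : U.left.Opens := ⟨(Set.range (pullback.fst U.hom f))ᶜ,
    (pullback.fst U.hom f).isClosedEmbedding.isClosed_range.isOpen_compl⟩
  let 𝒱 : Scheme.Cover.{u} (Scheme.precoverage P) U.left :=
    Scheme.Cover.mkOfCovers (↥(pullback U.hom f) ⊕ PUnit.{u + 1}) (Sum.elim V' fun _ => (V₀ : Scheme.{u}))
      (fun | .inl z => p z | .inr _ => V₀.ι)
      (fun x => by
        by_cases hx : x ∈ Set.range (pullback.fst U.hom f)
        · obtain ⟨z, rfl⟩ := hx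
          obtain ⟨w₀, hw₀⟩ := hmem z
          refine ⟨.inl z, k z w₀, ?_⟩
          show p z (k z w₀) = _
          rw [← Scheme.Hom.comp_apply, (sq z).w, Scheme.Hom.comp_apply, Scheme.Hom.comp_apply, hw₀]
          exact congrArg _ (hy z)
        · exact ⟨.inr ⟨⟩, ⟨x, hx⟩, rfl⟩)
      (fun | .inl z => hp z | .inr _ => hopen _ inferInstance)
  refine ⟨(Sieve.overEquiv U).symm (Sieve.ofArrows 𝒱.X 𝒱.f), ?_, fun U' g hg => ?_⟩
  · show Sieve.overEquiv U _ ∈ Scheme.grothendieckTopology P U.left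
    exact Eq.mpr (congrArg (fun T => T ∈ Scheme.grothendieckTopology P U.left) ((Sieve.overEquiv U).right_inv _))
      (Precoverage.generate_mem_toGrothendieck 𝒱.mem₀)
  · obtain ⟨V₁, a, b, hb, hab⟩ : (Sieve.ofArrows 𝒱.X 𝒱.f).arrows g.left := (Sieve.overEquiv_symm_iff _ g).1 hg
    obtain ⟨c⟩ := hb
    rcases c with z | _
    · right
      let a' : U'.left ⟶ V' z := a
      have hab' : a' ≫ p z = g.left := hab
      have wk : (pullback.fst U'.hom f ≫ a') ≫ p z =
          ((Over.pullback f).map g).left ≫ pullback.fst U.hom f := by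
        rw [Category.assoc, hab']
        exact (pullback.lift_fst _ _ _).symm
      let m := (sq z).lift (pullback.fst U'.hom f ≫ a') ((Over.pullback f).map g).left wk
      let G := (Over.pullback f).map g
      let A₁ := (Over.pullback f).obj U'
      let A₂ := (Over.pullback f).obj U
      have em : (m ≫ ι z) ≫ 𝒰.f (j z) = G.left :=
        (Category.assoc _ _ _).trans ((sq z).lift_snd _ _ wk)
      have hR₂ : R.arrows (Over.homMk (V := A₂) (𝒰.f (j z)) : Over.mk (𝒰.f (j z) ≫ A₂.hom) ⟶ A₂) :=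
        (Sieve.overEquiv_iff R _).1 (hle _ _ ⟨j z⟩)
      have wc : (m ≫ ι z) ≫ (𝒰.f (j z) ≫ A₂.hom) = A₁.hom :=
        (Category.assoc _ _ _).symm.trans ((congrArg (fun t => t ≫ A₂.hom) em).trans (Over.w G))
      let c₁ : A₁ ⟶ Over.mk (𝒰.f (j z) ≫ A₂.hom) := Over.homMk (m ≫ ι z) wc
      have eG : G = c₁ ≫ (Over.homMk (V := A₂) (𝒰.f (j z)) : Over.mk (𝒰.f (j z) ≫ A₂.hom) ⟶ A₂) :=
        Over.OverMorphism.ext em.symm
      show R.arrows G
      rw [eG]
      exact R.downward_closed hR₂ c₁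
    · left
      haveI : IsEmpty ↥((Over.pullback f).obj U').left := ⟨fun q => by
        have e : pullback.fst U.hom f (((Over.pullback f).map g).left q) = g.left (pullback.fst U'.hom f q) := by
          exact congrArg (fun t : pullback U'.hom f ⟶ U.left => t q) (pullback.lift_fst _ _ _)
        have hmem : g.left (pullback.fst U'.hom f q) ∈ V₀ := by
          rw [← hab]
          exact (a (pullback.fst U'.hom f q)).2
        exact hmem ⟨_, e⟩⟩
      show Sieve.overEquiv _ ⊥ ∈ Scheme.grothendieckTopology P ((Over.pullback f).obj U').left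
      exact GrothendieckTopology.superset_covering _ bot_le (Scheme.bot_mem_grothendieckTopology _)

end Groth.Agent.BigSiteLib
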