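import Groth.Prelude.Def_BigSite
import Mathlib.CategoryTheory.Sites.LocallyBijective
import Mathlib.CategoryTheory.Limits.Connected

/-!
# Colimits and direct images along almost cocontinuous functors
-/

set_option autoImplicit false
set_option backward.isDefEq.respectTransparency false
set_option backward.isDefEq.respectTransparency.types false
set_option maxHeartbeats 800000
universe t w v' u' u

namespace Groth.Agent.BigSiteLib

open CategoryTheory Limits Opposite

variable {C : Type (u + 1)} [Category.{u} C] {D : Type (u + 1)} [Category.{u} D]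
  {JC : GrothendieckTopology C} {JD : GrothendieckTopology D}

/-- Colimits of shape `J` of terminal objects are terminal. -/
def ColimitOfTerminals (J : Type t) [Category.{w} J] (A : Type u') [Category.{v'} A] : Prop :=
  ∀ (F : J ⥤ A), (∀ j, Nonempty (IsTerminal (F.obj j))) → ∀ c : Cocone F, IsColimit c → Nonempty (IsTerminal c.pt)

theorem colimitOfTerminals_type (J : Type t) [Category.{w} J] [IsConnected J] :
    ColimitOfTerminals J (Type (u + 1)) := by
  intro F hF c hc
  have hu : ∀ j, Nonempty (Unique (F.obj j)) := fun j => (hF j).map (Types.isTerminalEquivUnique _)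
  choose pt hpt using fun j => (⟨(hu j).some.default, fun x => (hu j).some.uniq x⟩ :
    ∃ p : F.obj j, ∀ x, x = p)
  obtain ⟨a, ha⟩ := constant_of_preserves_morphisms' (fun j => c.ι.app j (pt j)) (fun i j g => by
    rw [← hpt j (F.map g (pt i))]
    exact (congrArg (fun m : F.obj i ⟶ c.pt => m (pt i)) (c.w g)).symm)
  refine ⟨(Types.isTerminalEquivUnique _).symm { default := a, uniq := fun x => ?_ }⟩
  obtain ⟨j, y, rfl⟩ := Types.jointly_surjective_of_isColimit hc x
  rw [hpt j y]
  exact ha j

theorem colimitOfTerminals_ab (J : Type t) [Category.{w} J] : ColimitOfTerminals J AddCommGrpCat.{u + 1} := by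
  intro F hF c hc
  have hz : ∀ j, IsZero (F.obj j) := fun j => IsZero.of_iso (isZero_zero _)
    ((hF j).some.uniqueUpToIso HasZeroObject.zeroIsTerminal)
  refine ⟨IsZero.isTerminal ?_⟩
  rw [IsZero.iff_id_eq_zero]
  exact hc.hom_ext fun j => (hz j).eq_of_src _ _

variable {A : Type u'} [Category.{u + 1} A] {FA : A → A → Type*} {CA : A → Type (u + 1)}
  [∀ X Y, FunLike (FA X Y) (CA X) (CA Y)] [ConcreteCategory.{u + 1} A FA]

/-- Direct image along an almost cocontinuous functor preserves local bijectivity of maps which are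
isomorphisms on objects covered by the empty sieve. -/
theorem isLocallyBijective_whisker (F : C ⥤ D)
    (hF : BigSite.IsAlmostCocontinuous F JC JD) {P Q : Dᵒᵖ ⥤ A} (φ : P ⟶ Q)
    [Presheaf.IsLocallyInjective JD φ] [Presheaf.IsLocallySurjective JD φ]
    (hempty : ∀ X : D, (⊥ : Sieve X) ∈ JD X → IsIso (φ.app (op X))) :
    Presheaf.IsLocallyInjective JC (Functor.whiskerLeft F.op φ) ∧
      Presheaf.IsLocallySurjective JC (Functor.whiskerLeft F.op φ) := by
  constructor
  · refine ⟨fun {X} x y h => ?_⟩
    obtain ⟨R', hR', hg⟩ := hF X.unop _ (Presheaf.equalizerSieve_mem JD φ x y h)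
    refine JC.superset_covering (fun V g hgV => ?_) hR'
    rcases hg g hgV with hb | hr
    · haveI := hempty _ hb
      have hinj : Function.Injective (φ.app (op (F.obj V))) :=
        (ConcreteCategory.bijective_of_isIso (φ.app (op (F.obj V)))).1
      refine hinj ?_
      refine (NatTrans.naturality_apply φ (F.map g).op x).trans (Eq.trans ?_
        (NatTrans.naturality_apply φ (F.map g).op y).symm)
      exact congrArg _ h
    · exact hr
  · refine ⟨fun {U} s => ?_⟩
    obtain ⟨R', hR', hg⟩ := hF U _ (Presheaf.imageSieve_mem JD φ (U := op (F.obj U)) s)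
    refine JC.superset_covering (fun V g hgV => ?_) hR'
    rcases hg g hgV with hb | hr
    · haveI := hempty _ hb
      exact (ConcreteCategory.bijective_of_isIso (φ.app (op (F.obj V)))).2 _
    · exact hr

/-- Direct image along an almost cocontinuous continuous functor preserves colimits of shapes for which
colimits of terminal objects are terminal. -/
theorem preservesColimitsOfShape_pushforward [HasWeakSheafify JD A]
    [JC.WEqualsLocallyBijective A] [JD.WEqualsLocallyBijective A] (F : C ⥤ D) [F.IsContinuous JC JD]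
    (hF : BigSite.IsAlmostCocontinuous F JC JD) (J : Type t) [Category.{w} J]
    [HasColimitsOfShape J A] (hJ : ColimitOfTerminals J A) :
    PreservesColimitsOfShape J (F.sheafPushforwardContinuous A JC JD) where
  preservesColimit {Φ} := by
    let E := colimit.cocone (Φ ⋙ sheafToPresheaf JD A)
    let hE : IsColimit E := colimit.isColimit _
    refine preservesColimit_of_preserves_colimit_cocone (Sheaf.isColimitSheafifyCocone E hE) ?_
    have hempty : ∀ X : D, (⊥ : Sieve X) ∈ JD X → IsIso ((toSheafify JD E.pt).app (op X)) := fun X hX => by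
      obtain ⟨h₁⟩ := hJ _ (fun j => ⟨(Φ.obj j).isTerminalOfBotCover X hX⟩) _
        (isColimitOfPreserves ((evaluation Dᵒᵖ A).obj (op X)) hE)
      let h₂ := ((presheafToSheaf JD A).obj E.pt).isTerminalOfBotCover X hX
      exact ⟨h₁.from _, h₁.hom_ext _ _, h₂.hom_ext _ _⟩
    haveI := (JD.W_iff_isLocallyBijective (f := toSheafify JD E.pt)).1 (JD.W_toSheafify E.pt) |>.1
    haveI := (JD.W_iff_isLocallyBijective (f := toSheafify JD E.pt)).1 (JD.W_toSheafify E.pt) |>.2
    have hW : JC.W (Functor.whiskerLeft F.op (toSheafify JD E.pt)) :=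
      (JC.W_iff_isLocallyBijective _).2 (isLocallyBijective_whisker (FA := FA) F hF _ hempty)
    let hE' : IsColimit (((Functor.whiskeringLeft Cᵒᵖ Dᵒᵖ A).obj F.op).mapCocone E) :=
      isColimitOfPreserves _ hE
    let G := F.sheafPushforwardContinuous A JC JD
    let c := G.mapCocone (Sheaf.sheafifyCocone E)
    have hι : ∀ j, (c.ι.app j).hom =
        Functor.whiskerLeft F.op (E.ι.app j) ≫ Functor.whiskerLeft F.op (toSheafify JD E.pt) := fun j =>
      (congrArg (fun m => Functor.whiskerLeft F.op m) (Sheaf.sheafifyCocone_ι_app_val E j)).trans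
        (Functor.whiskerLeft_comp _ _ _)
    let d' : ∀ d : Cocone (Φ ⋙ G), Cocone ((Φ ⋙ sheafToPresheaf JD A) ⋙ (Functor.whiskeringLeft Cᵒᵖ Dᵒᵖ A).obj F.op) :=
      fun d => (sheafToPresheaf JC A).mapCocone d
    choose m hm using fun d : Cocone (Φ ⋙ G) => (hW d.pt.obj d.pt.property).2 (hE'.desc (d' d))
    refine IsColimit.ofExistsUnique fun d => ⟨⟨m d⟩, fun j => ?_, fun g hg => ?_⟩
    · apply ObjectProperty.hom_ext
      show (c.ι.app j).hom ≫ m d = _
      rw [hι, Category.assoc]
      refine (congrArg (fun t => Functor.whiskerLeft F.op (E.ι.app j) ≫ t) (hm d)).trans ?_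
      exact hE'.fac (d' d) j
    · apply ObjectProperty.hom_ext
      refine (hW d.pt.obj d.pt.property).1 (Eq.trans ?_ (hm d).symm)
      refine hE'.uniq (d' d) _ fun j => ?_
      have e := congrArg (fun t => t.hom) (hg j)
      exact ((Category.assoc _ _ _).symm.trans (congrArg (fun t => t ≫ g.hom) (hι j).symm)).trans e

end Groth.Agent.BigSiteLib
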