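import Groth.Agent.BigSiteLib.Shriek
import Groth.Agent.SpSeqLib.DerivedComp

/-!
# Base change for higher direct images on big sites
-/

set_option autoImplicit false
set_option backward.isDefEq.respectTransparency false
set_option backward.isDefEq.respectTransparency.types false
set_option maxHeartbeats 800000
universe u

namespace Groth.Agent.BigSiteLib

open CategoryTheory Limits AlgebraicGeometry Opposite

variable {T S T' S' : Scheme.{u}} {f : T ⟶ S} {g : S' ⟶ S} {g' : T' ⟶ T} {f' : T' ⟶ S'}

/-- The Beck-Chevalley isomorphism at an object. -/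
noncomputable def bcObjIso (c : IsPullback g' f' f g) (V : Over S') :
    (Over.map g').obj ((Over.pullback f').obj V) ≅ (Over.pullback f).obj ((Over.map g).obj V) :=
  Over.isoMk (f := (Over.map g').obj ((Over.pullback f').obj V))
    (g := (Over.pullback f).obj ((Over.map g).obj V))
    ((IsPullback.of_hasPullback V.hom f').paste_vert c.flip).isoPullback
    (IsPullback.isoPullback_hom_snd _)

/-- Base change commutes with composition with the projection of a cartesian square. -/
noncomputable def bcIso (c : IsPullback g' f' f g) :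
    Over.map g ⋙ Over.pullback f ≅ Over.pullback f' ⋙ Over.map g' :=
  (NatIso.ofComponents (F := Over.pullback f' ⋙ Over.map g') (G := Over.map g ⋙ Over.pullback f)
    (bcObjIso c) (fun {V W} a => by
      apply Over.OverMorphism.ext
      apply pullback.hom_ext <;>
        simp [bcObjIso, IsPullback.isoPullback_hom_fst, IsPullback.isoPullback_hom_snd,
          IsPullback.isoPullback_hom_snd_assoc])).symm

/-- Base change of direct images of big sheaves. -/
noncomputable def pushPullIso (K : Precoverage Scheme.{u}) (c : IsPullback g' f' f g) :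
    BigSite.pushBig K f AddCommGrpCat.{u + 1} ⋙ BigSite.pullBig K g AddCommGrpCat.{u + 1} ≅
      BigSite.pullBig K g' AddCommGrpCat.{u + 1} ⋙ BigSite.pushBig K f' AddCommGrpCat.{u + 1} :=
  haveI := Functor.isContinuous_comp (Over.map g) (Over.pullback f) (QuotSh.J K S') (QuotSh.J K S) (QuotSh.J K T)
  haveI := Functor.isContinuous_comp (Over.pullback f') (Over.map g') (QuotSh.J K S') (QuotSh.J K T') (QuotSh.J K T)
  Functor.sheafPushforwardContinuousIso (bcIso c) AddCommGrpCat.{u + 1} (QuotSh.J K S') (QuotSh.J K T)

theorem preservesFiniteLimits_pullBig (K : Precoverage Scheme.{u}) (g : S' ⟶ S) :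
    PreservesFiniteLimits (BigSite.pullBig K g AddCommGrpCat.{u + 1}) :=
  haveI : PreservesLimitsOfSize.{0, 0} (BigSite.pullBig K g AddCommGrpCat.{u + 1}) :=
    (BigSite.shriekAbAdj K g).rightAdjoint_preservesLimits
  PreservesLimitsOfSize.preservesFiniteLimits _

theorem preservesFiniteColimits_pullBig (K : Precoverage Scheme.{u}) (g : S' ⟶ S) :
    PreservesFiniteColimits (BigSite.pullBig K g AddCommGrpCat.{u + 1}) :=
  haveI : PreservesColimitsOfSize.{0, 0} (BigSite.pullBig K g AddCommGrpCat.{u + 1}) :=
    (BigSite.bigAdj K g AddCommGrpCat.{u + 1}).leftAdjoint_preservesColimits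
  PreservesColimitsOfSize.preservesFiniteColimits _

/-- Base change of higher direct images of big sheaves. -/
noncomputable def rPushPullIso (K : Precoverage Scheme.{u}) (c : IsPullback g' f' f g) (q : ℕ) :
    BigSite.RpushBig K f q ⋙ BigSite.pullBig K g AddCommGrpCat.{u + 1} ≅
      BigSite.pullBig K g' AddCommGrpCat.{u + 1} ⋙ BigSite.RpushBig K f' q :=
  haveI := preservesFiniteLimits_pullBig K g
  haveI := preservesFiniteColimits_pullBig K g
  haveI := preservesFiniteLimits_pullBig K g'
  haveI := preservesFiniteColimits_pullBig K g'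
  (SpSeqLib.rightDerivedPostcompIso _ _ q).symm ≪≫ SpSeqLib.rightDerivedCongr (pushPullIso K c) q ≪≫
    SpSeqLib.rightDerivedPrecompIso _ (fun I _ => injective_pullBig g' K I) _ q

section Etale

variable {X Y : Scheme.{u}} (f : X ⟶ Y)

/-- Restriction to the small etale sites commutes with direct images. -/
noncomputable def pushResIso (K : Precoverage Scheme.{u}) [BigSite.AEtCont K X] [BigSite.AEtCont K Y] :
    BigSite.pushBig K f AddCommGrpCat.{u + 1} ⋙ BigSite.resEt K Y ≅
      BigSite.resEt K X ⋙ EtCoh.push f :=
  haveI := Functor.isContinuous_comp (EtFppf.a Y) (Over.pullback f) Y.smallEtaleTopology (QuotSh.J K Y) (QuotSh.J K X)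
  haveI := Functor.isContinuous_comp (EtCoh.bc f) (EtFppf.a X) Y.smallEtaleTopology X.smallEtaleTopology (QuotSh.J K X)
  let e : EtFppf.a Y ⋙ Over.pullback f ≅ EtCoh.bc f ⋙ EtFppf.a X :=
    (MorphismProperty.Over.pullbackCompForgetIso (P := EtCoh.etaleMP) (Q := ⊤) f).symm
  Functor.sheafPushforwardContinuousIso (F := EtFppf.a Y ⋙ Over.pullback f) (F' := EtCoh.bc f ⋙ EtFppf.a X) e
    AddCommGrpCat.{u + 1} Y.smallEtaleTopology (QuotSh.J K X)

theorem preservesFiniteLimits_resEt (K : Precoverage Scheme.{u}) [BigSite.AEtCont K X] :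
    PreservesFiniteLimits (BigSite.resEt K X) :=
  haveI : PreservesLimitsOfSize.{0, 0} (BigSite.resEt K X) := (BigSite.piEtAdj K X).rightAdjoint_preservesLimits
  PreservesLimitsOfSize.preservesFiniteLimits _

/-- Restriction to the small etale sites commutes with higher direct images. -/
noncomputable def rPushResIso (K : Precoverage Scheme.{u}) [BigSite.AEtCont K X] [BigSite.AEtCont K Y]
    [BigSite.AEtCocont K X] [BigSite.AEtCocont K Y] (q : ℕ) :
    BigSite.RpushBig K f q ⋙ BigSite.resEt K Y ≅ BigSite.resEt K X ⋙ EtCoh.Rpush f q :=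
  haveI := preservesFiniteLimits_resEt (X := X) K
  haveI := preservesFiniteLimits_resEt (X := Y) K
  haveI := preservesFiniteColimits_resEt K X
  haveI := preservesFiniteColimits_resEt K Y
  (SpSeqLib.rightDerivedPostcompIso _ _ q).symm ≪≫ SpSeqLib.rightDerivedCongr (pushResIso f K) q ≪≫
    SpSeqLib.rightDerivedPrecompIso _ (fun I _ => injective_resEt K X I) _ q

end Etale

end Groth.Agent.BigSiteLib
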