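import Groth.Agent.BigSiteLib.SmallBig

/-!
# Restrictions of the counit of the comparison between small and big etale sites
-/

set_option autoImplicit false
set_option backward.isDefEq.respectTransparency false
set_option backward.isDefEq.respectTransparency.types false
set_option maxHeartbeats 1600000
universe u

namespace Groth.Agent.BigSiteLib

open CategoryTheory Limits AlgebraicGeometry Opposite

local notation "Ke" => Scheme.etalePrecoverage

variable {T S T' S' : Scheme.{u}}

/-- Restriction maps `G|_{S_et} ⟶ g_* (G|_{S'_et})` of a big sheaf. -/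
noncomputable def restrMap (g : S' ⟶ S) (G : BigSite.Ab Ke S) :
    (BigSite.resEt Ke S).obj G ⟶ (EtCoh.push g).obj ((BigSite.resEtAlong Ke g).obj G) :=
  (BigSite.resEt Ke S).map ((BigSite.bigAdj Ke g AddCommGrpCat.{u + 1}).unit.app G) ≫
    (pushResIso g Ke).hom.app ((BigSite.pullBig Ke g AddCommGrpCat.{u + 1}).obj G)

/-- The restricted counit is adjoint to the restriction map. -/
theorem homEquiv_resAlong_counit (g : S' ⟶ S) (G : BigSite.Ab Ke S) :
    (EtCoh.pullPushAdj g).homEquiv ((BigSite.resEt Ke S).obj G) ((BigSite.resEtAlong Ke g).obj G)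
      ((resAlongPullIso g).inv.app ((BigSite.resEt Ke S).obj G) ≫
        (BigSite.resEtAlong Ke g).map ((BigSite.piEtAdj Ke S).counit.app G)) = restrMap g G := by
  haveI := isIso_iEtAdj_counit S'
  let RS := BigSite.resEt Ke S
  let RT := BigSite.resEt Ke S'
  let I := BigSite.iEtPush Ke S'
  let PB := BigSite.pushBig Ke g AddCommGrpCat.{u + 1}
  let P := (BigSite.pullBig Ke g AddCommGrpCat.{u + 1}).obj G
  let X := RS.obj G
  let ε := (BigSite.piEtAdj Ke S).counit.app G
  let adj₂ := (BigSite.bigAdj Ke g AddCommGrpCat.{u + 1}).comp (BigSite.iEtAdj Ke S')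
  let e : (I ⋙ PB) ⋙ RS ≅ EtCoh.push g :=
    Functor.associator _ _ _ ≪≫ Functor.isoWhiskerLeft _ (pushResIso g Ke) ≪≫ (Functor.associator _ _ _).symm ≪≫
      Functor.isoWhiskerRight (asIso (BigSite.iEtAdj Ke S').counit) (EtCoh.push g) ≪≫ Functor.leftUnitor _
  let adj₁ := ((BigSite.piEtAdj Ke S).comp adj₂).ofNatIsoRight e
  have h1 : (EtCoh.pullPushAdj g).unit.app X ≫ (EtCoh.push g).map ((resAlongPullIso g).inv.app X) =
      adj₁.unit.app X := Adjunction.unit_leftAdjointUniq_hom_app (EtCoh.pullPushAdj g) adj₁ X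
  rw [Adjunction.homEquiv_unit, Functor.map_comp]
  refine ((Category.assoc _ _ _).symm.trans (congrArg (fun t => t ≫ _) h1)).trans ?_
  have h2 : adj₁.unit.app X = ((BigSite.piEtAdj Ke S).unit.app X ≫ RS.map (adj₂.unit.app _)) ≫
      e.hom.app _ := by
    simp [adj₁, Adjunction.ofNatIsoRight, Adjunction.comp_unit_app, RS]
  rw [h2]
  have h3 : e.hom.app (((BigSite.pullBig Ke g AddCommGrpCat.{u + 1}) ⋙ RT).obj ((BigSite.piEtPull Ke S).obj X)) ≫
      (EtCoh.push g).map ((BigSite.resEtAlong Ke g).map ε) =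
      RS.map ((I ⋙ PB).map ((BigSite.resEtAlong Ke g).map ε)) ≫ e.hom.app (RT.obj P) :=
    (e.hom.naturality _).symm
  have h4 : RS.map (adj₂.unit.app ((BigSite.piEtPull Ke S).obj X)) ≫
      RS.map ((I ⋙ PB).map ((BigSite.resEtAlong Ke g).map ε)) = RS.map ε ≫ RS.map (adj₂.unit.app G) := by
    rw [← Functor.map_comp, ← Functor.map_comp]
    exact congrArg _ (adj₂.unit.naturality ε).symm
  have h5 : (BigSite.piEtAdj Ke S).unit.app X ≫ RS.map ε = 𝟙 X :=
    (BigSite.piEtAdj Ke S).right_triangle_components G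
  refine (Category.assoc _ _ _).trans ((congrArg _ h3).trans ?_)
  refine (Category.assoc _ _ _).trans ((congrArg _ (Category.assoc _ _ _).symm).trans ?_)
  rw [h4]
  refine ((congrArg _ (Category.assoc _ _ _)).trans (Category.assoc _ _ _).symm).trans ?_
  refine ((congrArg (fun t => t ≫ _) h5).trans (Category.id_comp _)).trans ?_
  have h6 : adj₂.unit.app G = (BigSite.bigAdj Ke g AddCommGrpCat.{u + 1}).unit.app G ≫
      PB.map ((BigSite.iEtAdj Ke S').unit.app P) := Adjunction.comp_unit_app _ _ _
  have h7 : e.hom.app (RT.obj P) = (pushResIso g Ke).hom.app (I.obj (RT.obj P)) ≫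
      (EtCoh.push g).map ((BigSite.iEtAdj Ke S').counit.app (RT.obj P)) := by
    simp [e, I, RT]
  have h8 : RS.map (PB.map ((BigSite.iEtAdj Ke S').unit.app P)) ≫ e.hom.app (RT.obj P) =
      (pushResIso g Ke).hom.app P := by
    rw [h7]
    refine ((Category.assoc _ _ _).symm.trans
      (congrArg (fun t => t ≫ _) ((pushResIso g Ke).hom.naturality ((BigSite.iEtAdj Ke S').unit.app P)))).trans ?_
    refine (Category.assoc _ _ _).trans (Eq.trans (congrArg _ ?_) (Category.comp_id _))
    refine ((EtCoh.push g).map_comp _ _).symm.trans ?_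
    exact (congrArg _ ((BigSite.iEtAdj Ke S').left_triangle_components P)).trans ((EtCoh.push g).map_id _)
  rw [h6, Functor.map_comp]
  exact (Category.assoc _ _ _).trans (congrArg _ h8)

variable {f : T ⟶ S} {g : S' ⟶ S} {g' : T' ⟶ T} {f' : T' ⟶ S'}

/-- Direct images and restrictions to the small etale site of a scheme over the base. -/
noncomputable def resPushIso (c : IsPullback g' f' f g) (H : BigSite.Ab Ke T) :
    (BigSite.resEtAlong Ke g).obj ((BigSite.pushBig Ke f AddCommGrpCat.{u + 1}).obj H) ≅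
      (EtCoh.push f').obj ((BigSite.resEtAlong Ke g').obj H) :=
  (BigSite.resEt Ke S').mapIso ((pushPullIso Ke c).app H) ≪≫ (pushResIso f' Ke).app _

/-- Restriction maps of a big direct image. -/
theorem restrMap_pushBig (c : IsPullback g' f' f g) (H : BigSite.Ab Ke T) :
    restrMap g ((BigSite.pushBig Ke f AddCommGrpCat.{u + 1}).obj H) ≫ (EtCoh.push g).map (resPushIso c H).hom =
      (pushResIso f Ke).hom.app H ≫ (EtCoh.push f).map (restrMap g' H) ≫
        (EtCoh.pushComp f g').hom.app _ ≫ (EtCoh.pushCongr c.w).hom.app _ ≫ (EtCoh.pushComp g f').inv.app _ := by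
  apply ObjectProperty.hom_ext
  ext U : 2
  simp [restrMap, resPushIso, pushResIso, pushPullIso, EtCoh.pushComp, EtCoh.pushCongr, BigSite.bigAdj,
    Functor.sheafPushforwardContinuousComp', Functor.sheafPushforwardContinuousComp,
    Adjunction.sheafPushforwardContinuous, ← Functor.map_comp, ← op_comp]
  congr 2
  apply Over.OverMorphism.ext
  apply pullback.hom_ext <;>
    simp [bcIso, bcObjIso, MorphismProperty.Over.pullbackCompForgetIso, MorphismProperty.Over.pullbackComp,
      MorphismProperty.Over.pullbackCongr, EtCoh.bc, IsPullback.isoPullback_hom_fst,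
      IsPullback.isoPullback_hom_snd, IsPullback.isoPullback_hom_snd_assoc, IsPullback.isoPullback_hom_fst_assoc]
  all_goals erw [Category.id_comp]
  all_goals simp [pullback.map]
  · erw [pullbackLeftPullbackSndIso_inv_fst, pullback.lift_fst, pullbackLeftPullbackSndIso_hom_fst]
    rfl
  · erw [pullbackLeftPullbackSndIso_inv_fst_snd, pullback.lift_snd_assoc, pullbackLeftPullbackSndIso_hom_snd_assoc]
    rfl

/-- An object of the big site as the top object of its own small etale site. -/
noncomputable def topOverIso (X : Over S) :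
    (Over.map X.hom).obj ((EtFppf.a X.left).obj (EtCoh.top X.left)) ≅ X :=
  Over.isoMk (f := (Over.map X.hom).obj ((EtFppf.a X.left).obj (EtCoh.top X.left))) (g := X) (Iso.refl _)
    ((Category.id_comp _).trans (Category.id_comp _).symm)

/-- Isomorphisms of big etale sheaves are detected on all small etale sites. -/
theorem isIso_of_resEtAlong {G G' : BigSite.Ab Ke S} (φ : G ⟶ G')
    (h : ∀ (X : Over S), IsIso ((BigSite.resEtAlong Ke X.hom).map φ)) : IsIso φ := by
  refine (isIso_iff_of_reflects_iso φ (sheafToPresheaf (QuotSh.J Ke S) AddCommGrpCat.{u + 1})).1 ?_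
  rw [NatTrans.isIso_iff_isIso_app]
  rintro ⟨X⟩
  haveI := h X
  haveI : IsIso (((BigSite.resEtAlong Ke X.hom).map φ).hom.app (op (EtCoh.top X.left))) :=
    inferInstanceAs (IsIso ((EtCore.gsec X.left).map ((BigSite.resEtAlong Ke X.hom).map φ)))
  haveI : IsIso (φ.hom.app (op ((Over.map X.hom).obj ((EtFppf.a X.left).obj (EtCoh.top X.left))))) := this
  have e := φ.hom.naturality (topOverIso X).hom.op
  have e' : φ.hom.app (op X) = G.obj.map (topOverIso X).hom.op ≫
      φ.hom.app (op ((Over.map X.hom).obj ((EtFppf.a X.left).obj (EtCoh.top X.left)))) ≫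
        inv (G'.obj.map (topOverIso X).hom.op) := by
    rw [← Category.assoc, IsIso.eq_comp_inv]
    exact e.symm
  show IsIso (φ.hom.app (op X))
  rw [e']
  infer_instance

/-- The restricted counit. -/
theorem restrMap_transpose (g : S' ⟶ S) (G : BigSite.Ab Ke S) :
    ((EtCoh.pullPushAdj g).homEquiv _ _).symm (restrMap g G) =
      (resAlongPullIso g).inv.app ((BigSite.resEt Ke S).obj G) ≫
        (BigSite.resEtAlong Ke g).map ((BigSite.piEtAdj Ke S).counit.app G) := by
  rw [Equiv.symm_apply_eq]
  exact (homEquiv_resAlong_counit g G).symm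

/-- The restricted counit of a big direct image is computed by base change. -/
theorem transpose_restrMap_pushBig (c : IsPullback g' f' f g) (H : BigSite.Ab Ke T) :
    ((EtCoh.pullPushAdj g).homEquiv _ _).symm
        (restrMap g ((BigSite.pushBig Ke f AddCommGrpCat.{u + 1}).obj H)) ≫ (resPushIso c H).hom =
      (EtCoh.pull g).map ((pushResIso f Ke).hom.app H) ≫
        EtCoh.baseChange0 f g f' g' c.w ((BigSite.resEt Ke T).obj H) ≫
          (EtCoh.push f').map (((EtCoh.pullPushAdj g').homEquiv _ _).symm (restrMap g' H)) := by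
  apply ((EtCoh.pullPushAdj g).homEquiv _ _).injective
  let R := restrMap g' H
  let ĉ := ((EtCoh.pullPushAdj g').homEquiv _ _).symm R
  let W := EtCoh.pushComp f g'
  let iso : EtCoh.push g' ⋙ EtCoh.push f ≅ EtCoh.push f' ⋙ EtCoh.push g :=
    W ≪≫ EtCoh.pushCongr c.w ≪≫ (EtCoh.pushComp g f').symm
  rw [Adjunction.homEquiv_naturality_right, Equiv.apply_symm_apply, restrMap_pushBig c H,
    Adjunction.homEquiv_naturality_left, Adjunction.homEquiv_naturality_right]
  refine congrArg (fun t => _ ≫ t) ?_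
  simp only [EtCoh.baseChange0, Equiv.apply_symm_apply]
  have hR : (EtCoh.pullPushAdj g').unit.app _ ≫ (EtCoh.push g').map ĉ = R :=
    ((EtCoh.pullPushAdj g').homEquiv_unit _ _ _).symm.trans (Equiv.apply_symm_apply _ R)
  have nat : (EtCoh.push f).map ((EtCoh.push g').map ĉ) ≫ iso.hom.app _ =
      iso.hom.app _ ≫ (EtCoh.push g).map ((EtCoh.push f').map ĉ) := iso.hom.naturality ĉ
  have hiso : ∀ A, iso.hom.app A = (EtCoh.pushComp f g').hom.app A ≫ (EtCoh.pushCongr c.w).hom.app A ≫
      (EtCoh.pushComp g f').inv.app A := fun A => by simp [iso, W]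
  simp only [← hiso]
  refine Eq.trans ?_ (congrArg (fun t => t ≫ _) (Equiv.apply_symm_apply _ _).symm)
  show (EtCoh.push f).map R ≫ iso.hom.app _ =
    ((EtCoh.push f).map ((EtCoh.pullPushAdj g').unit.app _) ≫ iso.hom.app _) ≫
      (EtCoh.push g).map ((EtCoh.push f').map ĉ)
  rw [← hR, Functor.map_comp]
  exact (Category.assoc _ _ _).trans ((congrArg _ nat).trans (Category.assoc _ _ _).symm)

theorem isIso_piEtAdj_unit (G : EtCoh.Ab S) : IsIso ((BigSite.piEtAdj Ke S).unit.app G) := by
  haveI := isIso_iEtAdj_counit S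
  let t : CategoryTheory.Adjunction.Triple (BigSite.piEtPull Ke S) (BigSite.resEt Ke S) (BigSite.iEtPush Ke S) :=
    ⟨BigSite.piEtAdj Ke S, BigSite.iEtAdj Ke S⟩
  haveI : IsIso t.adj₂.counit := inferInstanceAs (IsIso (BigSite.iEtAdj Ke S).counit)
  haveI : IsIso t.adj₁.unit := t.isIso_unit_iff_isIso_counit.2 inferInstance
  exact inferInstanceAs (IsIso (t.adj₁.unit.app G))

theorem isIso_counit_piEtPull (G : EtCoh.Ab S) :
    IsIso ((BigSite.piEtAdj Ke S).counit.app ((BigSite.piEtPull Ke S).obj G)) := by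
  haveI := isIso_piEtAdj_unit G
  haveI : IsIso ((BigSite.piEtPull Ke S).map ((BigSite.piEtAdj Ke S).unit.app G)) := inferInstance
  have h := (BigSite.piEtAdj Ke S).left_triangle_components G
  exact IsIso.of_isIso_fac_left h

/-- A big direct image of a sheaf pulled back from the small etale site is pulled back from the small
etale site if degree-zero base change holds. -/
theorem isIso_counit_pushBig (f : T ⟶ S)
    (hbc : ∀ {S' T' : Scheme.{u}} (g : S' ⟶ S) (g' : T' ⟶ T) (f' : T' ⟶ S') (c : IsPullback g' f' f g)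
      (F : EtCoh.Ab T), IsIso (EtCoh.baseChange0 f g f' g' c.w F))
    (F : EtCoh.Ab T) :
    IsIso ((BigSite.piEtAdj Ke S).counit.app
      ((BigSite.pushBig Ke f AddCommGrpCat.{u + 1}).obj ((BigSite.piEtPull Ke T).obj F))) := by
  apply isIso_of_resEtAlong
  intro X
  let H := (BigSite.piEtPull Ke T).obj F
  let g := X.hom
  have c : IsPullback (pullback.fst f g) (pullback.snd f g) f g := IsPullback.of_hasPullback f g
  haveI := isIso_counit_piEtPull (S := T) F
  haveI : IsIso (((EtCoh.pullPushAdj (pullback.fst f g)).homEquiv _ _).symm (restrMap (pullback.fst f g) H)) := by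
    rw [restrMap_transpose]
    infer_instance
  haveI := hbc g (pullback.fst f g) (pullback.snd f g) c ((BigSite.resEt Ke T).obj H)
  haveI : IsIso (((EtCoh.pullPushAdj g).homEquiv _ _).symm
      (restrMap g ((BigSite.pushBig Ke f AddCommGrpCat.{u + 1}).obj H)) ≫ (resPushIso c H).hom) := by
    rw [transpose_restrMap_pushBig c H]
    infer_instance
  haveI := IsIso.of_isIso_comp_right (((EtCoh.pullPushAdj g).homEquiv _ _).symm
      (restrMap g ((BigSite.pushBig Ke f AddCommGrpCat.{u + 1}).obj H))) (resPushIso c H).hom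
  rw [restrMap_transpose] at this
  exact IsIso.of_isIso_comp_left ((resAlongPullIso g).inv.app _) _

/-- `π_S⁻¹ f_small,* ≅ f_big,* π_T⁻¹` if degree-zero base change holds. -/
noncomputable def piPushIso (f : T ⟶ S)
    (hbc : ∀ {S' T' : Scheme.{u}} (g : S' ⟶ S) (g' : T' ⟶ T) (f' : T' ⟶ S') (c : IsPullback g' f' f g)
      (F : EtCoh.Ab T), IsIso (EtCoh.baseChange0 f g f' g' c.w F))
    (F : EtCoh.Ab T) :
    (BigSite.piEtPull Ke S).obj ((EtCoh.push f).obj F) ≅
      (BigSite.pushBig Ke f AddCommGrpCat.{u + 1}).obj ((BigSite.piEtPull Ke T).obj F) :=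
  haveI := isIso_piEtAdj_unit (S := T) F
  haveI := isIso_counit_pushBig f hbc F
  (BigSite.piEtPull Ke S).mapIso ((EtCoh.push f).mapIso (asIso ((BigSite.piEtAdj Ke T).unit.app F)) ≪≫
      ((pushResIso f Ke).app ((BigSite.piEtPull Ke T).obj F)).symm) ≪≫
    asIso ((BigSite.piEtAdj Ke S).counit.app _)

end Groth.Agent.BigSiteLib
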