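import Groth.Agent.BigSiteLib.BaseChange
import Groth.Prelude.Def_EtCore

/-!
# The small etale site inside the big etale site
-/

set_option autoImplicit false
set_option backward.isDefEq.respectTransparency false
set_option backward.isDefEq.respectTransparency.types false
set_option maxHeartbeats 800000
universe u

namespace Groth.Agent.BigSiteLib

open CategoryTheory Limits AlgebraicGeometry Opposite

variable {T S : Scheme.{u}}

theorem isIso_iEtAdj_counit (X : Scheme.{u}) : IsIso (BigSite.iEtAdj Scheme.etalePrecoverage X).counit := by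
  haveI : (EtFppf.a X).Full := inferInstanceAs (Scheme.Etale.forget X).Full
  haveI : (EtFppf.a X).Faithful := inferInstanceAs (Scheme.Etale.forget X).Faithful
  haveI : ∀ F, IsIso ((BigSite.iEtAdj Scheme.etalePrecoverage X).counit.app F) := fun F => by
    refine (isIso_iff_of_reflects_iso _ (sheafToPresheaf X.smallEtaleTopology AddCommGrpCat.{u + 1})).1 ?_
    show IsIso ((BigSite.iEtAdj Scheme.etalePrecoverage X).counit.app F).hom
    rw [(EtFppf.a X).sheafAdjunctionCocontinuous_counit_app_hom AddCommGrpCat.{u + 1} X.smallEtaleTopology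
      (QuotSh.J Scheme.etalePrecoverage X) F]
    infer_instance
  exact NatIso.isIso_of_isIso_app _

/-- `(π_S⁻¹ F)|_{T_et} ≅ f⁻¹ F`. -/
noncomputable def resAlongPullIso (f : T ⟶ S) :
    BigSite.piEtPull Scheme.etalePrecoverage S ⋙ BigSite.resEtAlong Scheme.etalePrecoverage f ≅ EtCoh.pull f :=
  haveI := isIso_iEtAdj_counit T
  let K := Scheme.etalePrecoverage.{u}
  let e : (BigSite.iEtPush K T ⋙ BigSite.pushBig K f AddCommGrpCat.{u + 1}) ⋙ BigSite.resEt K S ≅ EtCoh.push f :=
    Functor.associator _ _ _ ≪≫ Functor.isoWhiskerLeft _ (pushResIso f K) ≪≫ (Functor.associator _ _ _).symm ≪≫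
      Functor.isoWhiskerRight (asIso (BigSite.iEtAdj K T).counit) (EtCoh.push f) ≪≫ Functor.leftUnitor _
  Adjunction.leftAdjointUniq
    (((BigSite.piEtAdj K S).comp ((BigSite.bigAdj K f AddCommGrpCat.{u + 1}).comp (BigSite.iEtAdj K T))).ofNatIsoRight e)
    (EtCoh.pullPushAdj f)

end Groth.Agent.BigSiteLib
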