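import Groth.Agent.BigSiteLib.EtFpqc
import Groth.Agent.BigSiteLib.SmallBig

/-!
# Pullback to the big fppf site
-/

set_option autoImplicit false
set_option backward.isDefEq.respectTransparency false
set_option backward.isDefEq.respectTransparency.types false
set_option maxHeartbeats 800000
universe u

namespace Groth.Agent.BigSiteLib

open CategoryTheory Limits AlgebraicGeometry Opposite

variable {S : Scheme.{u}}

/-- Sections of `π⁻¹ F` over an `S`-scheme. -/
noncomputable def piSheafSectIso (F : EtCoh.Ab S) (T : Over S) :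
    (piSheaf F).obj.obj (op T) ≅ ((EtCoh.pull T.hom).obj F).obj.obj (op (EtCoh.top T.left)) :=
  (piSheaf F).obj.mapIso (Over.isoMk (f := (Over.map T.hom).obj ((EtFppf.a T.left).obj (EtCoh.top T.left)))
      (g := T) (Iso.refl _) ((Category.id_comp _).trans (Category.id_comp _).symm)).op ≪≫
    (EtCore.gsec T.left).mapIso ((resAlongPullIso T.hom).app F)

/-- `π⁻¹ F` as a sheaf on the big fppf site. -/
noncomputable def piFppf (F : EtCoh.Ab S) : EtFppf.AbF S :=
  ⟨(piSheaf F).obj, (Presheaf.isSheaf_iff_isSheaf_forget _ _ (forget AddCommGrpCat.{u + 1})).2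
    ((isSheaf_iff_isSheaf_of_type _ _).2 (Presieve.isSheaf_of_le _
      (BigSite.J_mono Scheme.fppfPrecoverage_le_fpqcPrecoverage S)
      (types_isSheaf (⟨(piSheaf F).obj, isSheaf_fpqc_piSheaf F⟩ :
        Sheaf (QuotSh.J Scheme.fpqcPrecoverage S) AddCommGrpCat.{u + 1}))))⟩

/-- An fppf sheaf as a sheaf on the big etale site. -/
noncomputable def toEtale (H : EtFppf.AbF S) : BigSite.Ab Scheme.etalePrecoverage S :=
  ⟨H.obj, (Presheaf.isSheaf_iff_isSheaf_forget _ _ (forget AddCommGrpCat.{u + 1})).2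
    ((isSheaf_iff_isSheaf_of_type _ _).2 (Presieve.isSheaf_of_le _
      (BigSite.J_mono BigSite.etalePrecoverage_le_fppfPrecoverage S)
      (types_isSheaf (J := EtFppf.J S) H)))⟩

/-- `a⁻¹ F` on the big fppf site is `π⁻¹ F`. -/
noncomputable def aPullIso [EtFppf.ACont S] (F : EtCoh.Ab S) : (EtFppf.aPull S).obj F ≅ piFppf F := by
  let η := (EtFppf.aAdj S).unit.app F
  let η' := (BigSite.piEtAdj Scheme.etalePrecoverage S).unit.app F
  let v : F ⟶ (EtFppf.aPush S).obj (piFppf F) := ⟨η'.hom⟩
  let v' : F ⟶ (BigSite.resEt Scheme.etalePrecoverage S).obj (toEtale ((EtFppf.aPull S).obj F)) := ⟨η.hom⟩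
  let α := ((EtFppf.aAdj S).homEquiv F (piFppf F)).symm v
  let β := ((BigSite.piEtAdj Scheme.etalePrecoverage S).homEquiv F (toEtale ((EtFppf.aPull S).obj F))).symm v'
  have hα : η.hom ≫ Functor.whiskerLeft (EtFppf.a S).op α.hom = η'.hom := by
    have := ((EtFppf.aAdj S).homEquiv_unit F (piFppf F) α).symm.trans (Equiv.apply_symm_apply _ v)
    exact congrArg (fun t => t.hom) this
  have hβ : η'.hom ≫ Functor.whiskerLeft (EtFppf.a S).op β.hom = η.hom := by
    have := ((BigSite.piEtAdj Scheme.etalePrecoverage S).homEquiv_unit F _ β).symm.trans (Equiv.apply_symm_apply _ v')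
    exact congrArg (fun t => t.hom) this
  let β₁ : piFppf F ⟶ (EtFppf.aPull S).obj F := ⟨β.hom⟩
  refine ⟨α, β₁, ?_, ?_⟩
  · apply ((EtFppf.aAdj S).homEquiv F _).injective
    rw [Adjunction.homEquiv_unit, Adjunction.homEquiv_unit, CategoryTheory.Functor.map_id]
    refine Eq.trans ?_ (Category.comp_id _).symm
    apply ObjectProperty.hom_ext
    show η.hom ≫ Functor.whiskerLeft (EtFppf.a S).op (α.hom ≫ β.hom) = η.hom
    rw [Functor.whiskerLeft_comp, ← Category.assoc, hα, hβ]
  · apply ObjectProperty.hom_ext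
    let γ : piSheaf F ⟶ piSheaf F := ⟨β.hom ≫ α.hom⟩
    have hγ : γ = 𝟙 _ := by
      apply ((BigSite.piEtAdj Scheme.etalePrecoverage S).homEquiv F _).injective
      rw [Adjunction.homEquiv_unit, Adjunction.homEquiv_unit, CategoryTheory.Functor.map_id]
      refine Eq.trans ?_ (Category.comp_id _).symm
      apply ObjectProperty.hom_ext
      show η'.hom ≫ Functor.whiskerLeft (EtFppf.a S).op (β.hom ≫ α.hom) = η'.hom
      rw [Functor.whiskerLeft_comp, ← Category.assoc, hβ, hα]
    exact congrArg (fun t => t.hom) hγ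

end Groth.Agent.BigSiteLib
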