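import Groth.Agent.BigSiteLib.Germs
import Groth.Agent.HTopV.Fpqc

/-!
# Sheaves pulled back from the small etale site satisfy fpqc descent
-/

set_option autoImplicit false
set_option backward.isDefEq.respectTransparency false
set_option backward.isDefEq.respectTransparency.types false
set_option maxHeartbeats 800000
universe w u

namespace Groth.Agent.BigSiteLib

open CategoryTheory Limits AlgebraicGeometry Opposite

local notation "Je" => QuotSh.J Scheme.etalePrecoverage

variable {S : Scheme.{u}}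

section Fibre

variable {X Y Z : Over S} (g : X ⟶ Z) (h : Y ⟶ Z)

/-- Fibre product of schemes over a base. -/
noncomputable abbrev pbObj : Over S := Over.mk (pullback.fst g.left h.left ≫ X.hom)

/-- First projection. -/
noncomputable abbrev pbFst : pbObj g h ⟶ X :=
  Over.homMk (U := pbObj g h) (V := X) (pullback.fst g.left h.left) rfl

theorem pbSnd_w : pullback.snd g.left h.left ≫ Y.hom = pullback.fst g.left h.left ≫ X.hom := by
  rw [← Over.w h, ← pullback.condition_assoc, Over.w g]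

/-- Second projection. -/
noncomputable abbrev pbSnd : pbObj g h ⟶ Y :=
  Over.homMk (U := pbObj g h) (V := Y) (pullback.snd g.left h.left) (pbSnd_w g h)

theorem pb_condition : pbFst g h ≫ g = pbSnd g h ≫ h := Over.OverMorphism.ext pullback.condition

theorem pb_point {x : X.left} {y : Y.left} (e : g.left x = h.left y) :
    ∃ p : (pbObj g h).left, (pbFst g h).left p = x ∧ (pbSnd g h).left p = y :=
  Scheme.Pullback.exists_preimage_pullback x y e

/-- Lift to the fibre product. -/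
noncomputable abbrev pbLift {W : Over S} (a : W ⟶ X) (b : W ⟶ Y) (w : a ≫ g = b ≫ h) : W ⟶ pbObj g h :=
  Over.homMk (U := W) (V := pbObj g h) (pullback.lift a.left b.left (congrArg (fun t => t.left) w))
    ((pullback.lift_fst_assoc _ _ _ _).trans (Over.w a))

theorem pbLift_fst {W : Over S} (a : W ⟶ X) (b : W ⟶ Y) (w : a ≫ g = b ≫ h) :
    pbLift g h a b w ≫ pbFst g h = a := Over.OverMorphism.ext (pullback.lift_fst _ _ _)

theorem pbLift_snd {W : Over S} (a : W ⟶ X) (b : W ⟶ Y) (w : a ≫ g = b ≫ h) :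
    pbLift g h a b w ≫ pbSnd g h = b := Over.OverMorphism.ext (pullback.lift_snd _ _ _)

theorem etale_pbFst [Etale h.left] : Etale (pbFst g h).left :=
  MorphismProperty.pullback_fst g.left h.left inferInstance

theorem etale_pbSnd [Etale g.left] : Etale (pbSnd g h).left :=
  MorphismProperty.pullback_snd g.left h.left inferInstance

end Fibre

theorem map_map_apply (G : (Over S)ᵒᵖ ⥤ AddCommGrpCat.{u + 1}) {X Y Z : Over S} (f : X ⟶ Y) (g : Y ⟶ Z)
    (z : G.obj (op Z)) : G.map f.op (G.map g.op z) = G.map (f ≫ g).op z := by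
  rw [← ConcreteCategory.comp_apply, ← G.map_comp, ← op_comp]

theorem etale_sieve_mem {X : Over S} (R : Sieve X)
    (h : ∀ x : X.left, ∃ (W : Over S) (e : W ⟶ X), Etale e.left ∧ (∃ w, e.left w = x) ∧ R.arrows e) :
    R ∈ Je S X := by
  choose W e he w hR using h
  show Sieve.overEquiv X R ∈ Scheme.grothendieckTopology @Etale X.left
  rw [Scheme.mem_grothendieckTopology_iff]
  refine ⟨Scheme.Cover.mkOfCovers X.left (fun x => (W x).left) (fun x => (e x).left)
    (fun x => ⟨x, w x⟩) he, ?_⟩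
  rintro _ _ ⟨x⟩
  refine (Sieve.overEquiv_iff R _).2 ?_
  have key : R.arrows (Over.homMk (U := Over.mk ((e x).left ≫ X.hom)) (V := X) (e x).left rfl) := by
    have := R.downward_closed (hR x)
      (Over.homMk (U := Over.mk ((e x).left ≫ X.hom)) (V := W x) (𝟙 _)
        ((Category.id_comp _).trans (Over.w (e x)).symm))
    convert this using 1
    exact Over.OverMorphism.ext (Category.id_comp _).symm
  exact key

theorem types_isSheaf {J : GrothendieckTopology (Over S)} (G : Sheaf J AddCommGrpCat.{u + 1}) :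
    Presieve.IsSheaf J (G.obj ⋙ forget AddCommGrpCat.{u + 1}) :=
  (isSheaf_iff_isSheaf_of_type _ _).1
    ((Presheaf.isSheaf_iff_isSheaf_forget J G.obj (forget AddCommGrpCat.{u + 1})).1 G.property)

variable (G : BigSite.Ab Scheme.etalePrecoverage S)

/-- A section is zero etale locally at a point. -/
def ZeroAt {X : Over S} (s : G.obj.obj (op X)) (x : X.left) : Prop :=
  ∃ (W : Over S) (e : W ⟶ X), Etale e.left ∧ (∃ w, e.left w = x) ∧ G.obj.map e.op s = 0

variable {G}

theorem eq_of_etale_locally {X : Over S} {s t : G.obj.obj (op X)}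
    (h : ∀ x : X.left, ∃ (W : Over S) (e : W ⟶ X), Etale e.left ∧ (∃ w, e.left w = x) ∧
      G.obj.map e.op s = G.obj.map e.op t) : s = t :=
  ((types_isSheaf G) _ (etale_sieve_mem (Presheaf.equalizerSieve (F := G.obj) (X := op X) s t) h)).isSeparatedFor.ext
    (fun {_} _ hg => hg)

theorem eq_zero_of_zeroAt {X : Over S} {s : G.obj.obj (op X)} (h : ∀ x, ZeroAt G s x) : s = 0 :=
  eq_of_etale_locally fun x => by
    obtain ⟨W, e, he, hw, h0⟩ := h x
    exact ⟨W, e, he, hw, h0.trans (map_zero _).symm⟩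

theorem zeroAt_of_eq_zero {X : Over S} {s : G.obj.obj (op X)} (h : s = 0) (x : X.left) : ZeroAt G s x :=
  ⟨X, 𝟙 X, inferInstanceAs (Etale (𝟙 X.left)), ⟨x, rfl⟩, by rw [h, map_zero]⟩

theorem isOpen_zeroAt {X : Over S} (s : G.obj.obj (op X)) : IsOpen {x | ZeroAt G s x} := by
  rw [isOpen_iff_forall_mem_open]
  rintro x ⟨W, e, he, ⟨w, hw⟩, h0⟩
  refine ⟨Set.range e.left, ?_, e.left.isOpenMap.isOpen_range, ⟨w, hw⟩⟩
  rintro _ ⟨w', rfl⟩
  exact ⟨W, e, he, ⟨w', rfl⟩, h0⟩

theorem zeroAt_pullback {X X' : Over S} (h : X' ⟶ X) {s : G.obj.obj (op X)} {x' : X'.left}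
    (hs : ZeroAt G s (h.left x')) : ZeroAt G (G.obj.map h.op s) x' := by
  obtain ⟨W, e, he, ⟨w, hw⟩, h0⟩ := hs
  obtain ⟨p, -, hp⟩ := pb_point e h hw
  refine ⟨pbObj e h, pbSnd e h, etale_pbSnd e h, ⟨p, hp⟩, ?_⟩
  rw [map_map_apply, ← pb_condition, ← map_map_apply, h0, map_zero]

variable {F : EtCoh.Ab S}

theorem zeroAt_descend {X X' : Over S} (h : X' ⟶ X) {s : (piSheaf F).obj.obj (op X)} {x' : X'.left}
    (hs : ZeroAt (piSheaf F) ((piSheaf F).obj.map h.op s) x') : ZeroAt (piSheaf F) s (h.left x') := by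
  obtain ⟨W, e, he, ⟨w, hw⟩, U, b, y, hy⟩ := exists_rep s (h.left x')
  obtain ⟨p, hp₁, hp₂⟩ := pb_point e h hw
  have h1 : ZeroAt (piSheaf F) ((piSheaf F).obj.map (pbSnd e h).op ((piSheaf F).obj.map h.op s)) p :=
    zeroAt_pullback _ (by rw [hp₂]; exact hs)
  rw [map_map_apply, ← pb_condition, ← map_map_apply, hy, map_map_apply] at h1
  obtain ⟨W', e', -, ⟨w', hw'⟩, h0⟩ := h1
  rw [map_map_apply] at h0
  obtain ⟨V, k, v, hv, hk⟩ := exists_kill _ y h0 w'
  have hbv : b.left w = ((EtFppf.a S).map k).left v := by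
    rw [hv, Over.comp_left, Over.comp_left, Scheme.Hom.comp_apply, Scheme.Hom.comp_apply, hw', hp₁]
  obtain ⟨q, hq, -⟩ := pb_point b ((EtFppf.a S).map k) hbv
  haveI : Etale ((EtFppf.a S).map k).left := inferInstanceAs (Etale k.left)
  haveI := etale_pbFst b ((EtFppf.a S).map k)
  refine ⟨pbObj b ((EtFppf.a S).map k), pbFst b ((EtFppf.a S).map k) ≫ e,
    inferInstanceAs (Etale (_ ≫ _)), ⟨q, ?_⟩, ?_⟩
  · rw [Over.comp_left, Scheme.Hom.comp_apply, hq, hw]
  · rw [← map_map_apply, hy, map_map_apply, pb_condition, ← map_map_apply, etaApp_naturality, hk,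
      map_zero, map_zero]
where
  exists_rep {X : Over S} (s : (piSheaf F).obj.obj (op X)) (x : X.left) :
      ∃ (W : Over S) (e : W ⟶ X), Etale e.left ∧ (∃ w, e.left w = x) ∧
        ∃ (U : S.Etale) (b : W ⟶ (EtFppf.a S).obj U) (y : F.obj.obj (op U)),
          (piSheaf F).obj.map e.op s = (piSheaf F).obj.map b.op (etaApp F U y) := by
    haveI := (GrothendieckTopology.W_iff_isLocallyBijective (J := Je S) (lanToPi F)).1 (W_lanToPi F) |>.2
    have hS : Sieve.overEquiv X (Presheaf.imageSieve (lanToPi F) (U := X) s) ∈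
        Scheme.grothendieckTopology @Etale X.left :=
      Presheaf.imageSieve_mem (Je S) (lanToPi F) (U := op X) s
    obtain ⟨𝒰, hle⟩ := Scheme.exists_cover_of_mem_grothendieckTopology hS
    obtain ⟨w, hw⟩ := 𝒰.covers x
    obtain ⟨t, ht⟩ := (Sieve.overEquiv_iff _ _).1 (hle _ _ ⟨𝒰.idx x⟩)
    obtain ⟨U, b, y, rfl⟩ := exists_lan_rep F t
    refine ⟨Over.mk (𝒰.f (𝒰.idx x) ≫ X.hom), Over.homMk (𝒰.f (𝒰.idx x)), 𝒰.map_prop _, ⟨w, hw⟩, U, b, y, ?_⟩
    refine ht.symm.trans ((NatTrans.naturality_apply (lanToPi F) b.op _).trans ?_)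
    exact congrArg _ (DFunLike.congr_fun (congrArg AddCommGrpCat.Hom.hom (lanToPi_unit F U)) y)
  exists_kill {X : Over S} {U : S.Etale} (b : X ⟶ (EtFppf.a S).obj U) (y : F.obj.obj (op U))
      (h : (piSheaf F).obj.map b.op (etaApp F U y) = 0) (x : X.left) :
      ∃ (V : S.Etale) (k : V ⟶ U) (v : ((EtFppf.a S).obj V).left),
        ((EtFppf.a S).map k).left v = b.left x ∧ F.obj.map k.op y = 0 := by
    haveI := (GrothendieckTopology.W_iff_isLocallyBijective (J := Je S) (lanToPi F)).1 (W_lanToPi F) |>.1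
    let t := (lanPre F).map b.op (((EtFppf.a S).op.lanUnit.app F.obj).app (op U) y)
    have ht : (lanToPi F).app (op X) t = (lanToPi F).app (op X) 0 := by
      rw [map_zero]
      refine ((NatTrans.naturality_apply (lanToPi F) b.op _).trans ?_).trans h
      exact congrArg _ (DFunLike.congr_fun (congrArg AddCommGrpCat.Hom.hom (lanToPi_unit F U)) y)
    have hS : Sieve.overEquiv X (Presheaf.equalizerSieve (F := lanPre F) (X := op X) t 0) ∈
        Scheme.grothendieckTopology @Etale X.left :=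
      Presheaf.equalizerSieve_mem (Je S) (lanToPi F) (X := op X) t 0 ht
    obtain ⟨𝒰, hle⟩ := Scheme.exists_cover_of_mem_grothendieckTopology hS
    obtain ⟨w, hw⟩ := 𝒰.covers x
    have h0 := (Sieve.overEquiv_iff _ _).1 (hle _ _ ⟨𝒰.idx x⟩)
    let e : Over.mk (𝒰.f (𝒰.idx x) ≫ X.hom) ⟶ X := Over.homMk (𝒰.f (𝒰.idx x))
    have h1 : (lanPre F).map (e ≫ b).op (((EtFppf.a S).op.lanUnit.app F.obj).app (op U) y) = 0 := by
      rw [← map_map_apply]
      exact (h0 : _ = _).trans (map_zero _)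
    obtain ⟨V, k, c, hc, hk⟩ := exists_lan_rep_zero F (e ≫ b) y h1
    refine ⟨V, k, c.left w, ?_, hk⟩
    rw [← Scheme.Hom.comp_apply, ← Over.comp_left, hc, Over.comp_left, Scheme.Hom.comp_apply]
    exact congrArg b.left hw

/-- A subset is open when its preimages in the members of an fpqc covering are open. -/
theorem isOpen_of_fpqcCover {T : Scheme.{u}} (E : PreZeroHypercover.{w} T) [QuasiCompactCover E]
    [∀ i, Flat (E.f i)] {A : Set T} (hA : ∀ i, IsOpen (E.f i ⁻¹' A)) : IsOpen A := by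
  rw [isOpen_iff_forall_mem_open]
  intro x hx
  obtain ⟨U, hU, hxU, -⟩ := exists_isAffineOpen_mem_and_subset (X := T) (x := x) (U := ⊤) trivial
  obtain ⟨n, j, V, hV, hUV⟩ := QuasiCompactCover.exists_isAffineOpen_of_isCompact E hU.isCompact
  haveI : IsAffine (U : Scheme.{u}) := hU
  haveI : ∀ k, IsAffine ((V k : (E.X (j k)).Opens) : Scheme.{u}) := hV
  have hrange : ∀ k, Set.range ((V k).ι ≫ E.f (j k)) ⊆ Set.range U.ι := fun k => by
    rintro _ ⟨p, rfl⟩
    rw [Scheme.Opens.range_ι]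
    rw [← hUV]
    exact Set.mem_iUnion.2 ⟨k, _, p.2, rfl⟩
  let l : ∀ k, ((V k : (E.X (j k)).Opens) : Scheme.{u}) ⟶ U := fun k =>
    IsOpenImmersion.lift U.ι ((V k).ι ≫ E.f (j k)) (hrange k)
  let q := Sigma.desc l
  haveI : ∀ k, Flat (l k) := fun k => by
    have : Flat (l k ≫ U.ι) := by
      rw [IsOpenImmersion.lift_fac]
      infer_instance
    exact MorphismProperty.of_postcomp (W := @Flat) (W' := @IsOpenImmersion) (l k) U.ι inferInstance this
  haveI : Flat q := IsZariskiLocalAtSource.sigmaDesc inferInstance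
  haveI : Surjective q := ⟨fun z => by
    have hz : z.1 ∈ (U : Set T) := z.2
    rw [← hUV] at hz
    obtain ⟨k, p, hp, hpz⟩ := Set.mem_iUnion.1 hz
    refine ⟨Sigma.ι (fun k => ((V k : (E.X (j k)).Opens) : Scheme.{u})) k ⟨p, hp⟩, U.ι.isOpenEmbedding.injective ?_⟩
    rw [← Scheme.Hom.comp_apply, ← Scheme.Hom.comp_apply, ← Category.assoc, Sigma.ι_desc,
      IsOpenImmersion.lift_fac, Scheme.Hom.comp_apply]
    exact hpz⟩
  have hq : IsOpen (q ⁻¹' (U.ι ⁻¹' A)) := by
    rw [← Set.preimage_comp]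
    refine (sigmaOpenCover fun k => ((V k : (E.X (j k)).Opens) : Scheme.{u})).isOpenCover_opensRange.isOpen_iff_inter.2
      fun k => ?_
    have : IsOpen ((Sigma.ι (fun k => ((V k : (E.X (j k)).Opens) : Scheme.{u})) k) ⁻¹'
        ((U.ι ∘ q) ⁻¹' A)) := by
      rw [← Set.preimage_comp]
      have e : (U.ι ∘ q) ∘ Sigma.ι (fun k => ((V k : (E.X (j k)).Opens) : Scheme.{u})) k =
          E.f (j k) ∘ (V k).ι := funext fun p => by
        show U.ι (q ((Sigma.ι (fun k => ((V k : (E.X (j k)).Opens) : Scheme.{u})) k) p)) = E.f (j k) ((V k).ι p)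
        rw [← Scheme.Hom.comp_apply, ← Scheme.Hom.comp_apply, ← Category.assoc, Sigma.ι_desc,
          IsOpenImmersion.lift_fac, Scheme.Hom.comp_apply]
      rw [e, Set.preimage_comp]
      exact (hA (j k)).preimage (V k).ι.continuous
    have h2 := (Sigma.ι (fun k => ((V k : (E.X (j k)).Opens) : Scheme.{u})) k).isOpenEmbedding.isOpenMap _ this
    rwa [Set.image_preimage_eq_inter_range] at h2
  have hU' := (Flat.isQuotientMap_of_surjective q).isOpen_preimage.1 hq
  refine ⟨U.ι '' (U.ι ⁻¹' A), Set.image_preimage_subset _ _, U.ι.isOpenEmbedding.isOpenMap _ hU', ⟨x, hxU⟩, hx, rfl⟩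

theorem isSheaf_fpqc_piSheaf (F : EtCoh.Ab S) :
    Presheaf.IsSheaf (QuotSh.J Scheme.fpqcPrecoverage S) (piSheaf F).obj := by
  refine (Presheaf.isSheaf_iff_isSheaf_forget _ _ (forget AddCommGrpCat.{u + 1})).2 ?_
  rw [isSheaf_iff_isSheaf_of_type]
  intro X R hR x hx
  have hR' : Sieve.overEquiv X R ∈ Scheme.fpqcTopology X.left := hR
  obtain ⟨R₀, hR₀, hle⟩ := Precoverage.mem_toGrothendieck_iff_of_isStableUnderComposition.1 hR'
  obtain ⟨E, rfl⟩ := Precoverage.mem_iff_exists_zeroHypercover.1 hR₀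
  haveI hqc := ((HTopV.mem_fpqc_iff E.toPreZeroHypercover).1 E.mem₀).1
  have hfl := ((HTopV.mem_fpqc_iff E.toPreZeroHypercover).1 E.mem₀).2
  let G := piSheaf F
  let T : E.I₀ → Over S := fun i => Over.mk (E.f i ≫ X.hom)
  let h : ∀ i, T i ⟶ X := fun i => Over.homMk (E.f i)
  have hmem : ∀ i, R.arrows (h i) := fun i => (Sieve.overEquiv_iff R _).1 (hle _ _ ⟨i⟩)
  let s : ∀ i, G.obj.obj (op (T i)) := fun i => x (h i) (hmem i)
  have scompat : ∀ {Z : Over S} (i j) (a : Z ⟶ T i) (b : Z ⟶ T j), a ≫ h i = b ≫ h j →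
      G.obj.map a.op (s i) = G.obj.map b.op (s j) := fun i j a b e => hx a b (hmem i) (hmem j) e
  haveI := hqc
  have hsurj : ∀ z : X.left, ∃ i p, (h i).left p = z := fun z => by
    obtain ⟨U, hU, hzU, -⟩ := exists_isAffineOpen_mem_and_subset (X := X.left) (x := z) (U := ⊤) trivial
    obtain ⟨n, j, V, -, hUV⟩ :=
      QuasiCompactCover.exists_isAffineOpen_of_isCompact E.toPreZeroHypercover hU.isCompact
    rw [← SetLike.mem_coe, ← hUV] at hzU
    obtain ⟨k, p, -, hp⟩ := Set.mem_iUnion.1 hzU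
    exact ⟨j k, p, hp⟩
  let IsLift : ∀ {Y : Over S}, (Y ⟶ X) → G.obj.obj (op Y) → Prop := fun {Y} g y =>
    ∀ (Z : Over S) (a : Z ⟶ Y) (i) (b : Z ⟶ T i), a ≫ g = b ≫ h i → G.obj.map a.op y = G.obj.map b.op (s i)
  have uniq : ∀ {Y : Over S} (g : Y ⟶ X) (y y' : G.obj.obj (op Y)), IsLift g y → IsLift g y' → y = y' := by
    intro Y g y y' hy hy'
    refine sub_eq_zero.1 (eq_zero_of_zeroAt (G := G) fun z => ?_)
    obtain ⟨i, p, hp⟩ := hsurj (g.left z)
    obtain ⟨q, hq, -⟩ := pb_point g (h i) hp.symm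
    rw [← hq]
    refine zeroAt_descend (F := F) _ (zeroAt_of_eq_zero (G := G) ?_ q)
    rw [map_sub, hy _ _ i _ (pb_condition g (h i)), hy' _ _ i _ (pb_condition g (h i)), sub_self]
  have xlift : ∀ {Y : Over S} (g : Y ⟶ X) (hg : R.arrows g), IsLift g (x g hg) :=
    fun g hg Z a i b e => hx a b hg (hmem i) e
  let L : Sieve X :=
    { arrows := fun Y g => ∃ y, IsLift g y
      downward_closed := fun {Y Y'} g ⟨y, hy⟩ k => ⟨G.obj.map k.op y, fun Z a i b e => by
        rw [map_map_apply]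
        exact hy Z (a ≫ k) i b ((Category.assoc _ _ _).trans e)⟩ }
  have hL : L ∈ Je S X := etale_sieve_mem L fun t => by
    obtain ⟨i₀, p, hp⟩ := hsurj t
    obtain ⟨W, e, he, ⟨w, hw⟩, U, b, y, hy⟩ := zeroAt_descend.exists_rep (F := F) (s i₀) p
    let aU := (EtFppf.a S).obj U
    haveI : Etale aU.hom := U.prop
    let V : Over S := Over.mk (pullback.fst X.hom aU.hom ≫ X.hom)
    let vX : V ⟶ X := Over.homMk (U := V) (V := X) (pullback.fst X.hom aU.hom) rfl
    let vU : V ⟶ aU := Over.homMk (U := V) (V := aU) (pullback.snd X.hom aU.hom) pullback.condition.symm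
    let δ : ∀ i, G.obj.obj (op (pbObj (h i) vX)) := fun i =>
      G.obj.map (pbFst (h i) vX).op (s i) - G.obj.map (pbSnd (h i) vX ≫ vU).op (etaApp F U y)
    have indep : ∀ i j (q : (pbObj (h i) vX).left) (q' : (pbObj (h j) vX).left),
        (pbSnd (h i) vX).left q = (pbSnd (h j) vX).left q' → ZeroAt G (δ i) q → ZeroAt G (δ j) q' := by
      intro i j q q' eq hz
      obtain ⟨r, hr₁, hr₂⟩ := pb_point (pbSnd (h i) vX) (pbSnd (h j) vX) eq
      let r₁ := pbFst (pbSnd (h i) vX) (pbSnd (h j) vX)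
      let r₂ := pbSnd (pbSnd (h i) vX) (pbSnd (h j) vX)
      have ec : r₁ ≫ pbSnd (h i) vX = r₂ ≫ pbSnd (h j) vX := pb_condition _ _
      have e1 : G.obj.map r₁.op (δ i) = G.obj.map r₂.op (δ j) := by
        simp only [δ, map_sub, map_map_apply]
        congr 1
        · refine scompat i j _ _ ?_
          rw [Category.assoc, Category.assoc, pb_condition, pb_condition, reassoc_of% ec]
        · rw [reassoc_of% ec]
      rw [← hr₂]
      refine zeroAt_descend (F := F) r₂ ?_
      rw [← e1]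
      exact zeroAt_pullback r₁ (by rw [hr₁]; exact hz)
    let A : Set V.left := {v | ∀ i q, (pbSnd (h i) vX).left q = v → ZeroAt G (δ i) q}
    have hA : IsOpen A := by
      let E' : PreZeroHypercover V.left :=
        { I₀ := E.I₀
          X := fun i => (pbObj (h i) vX).left
          f := fun i => (pbSnd (h i) vX).left }
      have hE' : E'.presieve₀ ∈ Scheme.fpqcPrecoverage V.left :=
        Precoverage.mem_coverings_of_isPullback E.f E.mem₀ vX.left E'.f
          (fun i => (pbFst (h i) vX).left) (fun i => (IsPullback.of_hasPullback (h i).left vX.left).flip)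
      haveI := ((HTopV.mem_fpqc_iff E').1 hE').1
      haveI := ((HTopV.mem_fpqc_iff E').1 hE').2
      refine isOpen_of_fpqcCover E' fun i => ?_
      convert isOpen_zeroAt (G := G) (δ i) using 1
      ext q
      exact ⟨fun hq => hq i q rfl, fun hq j q' hq' => indep i j q q' hq'.symm hq⟩
    let A' : V.left.Opens := ⟨A, hA⟩
    let WA : Over S := Over.mk (A'.ι ≫ V.hom)
    let ιA : WA ⟶ V := Over.homMk (U := WA) (V := V) A'.ι rfl
    have evX : (b.left ≫ aU.hom) = (e ≫ h i₀).left ≫ X.hom := (Over.w b).trans (Over.w (e ≫ h i₀)).symm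
    let m : W ⟶ V := Over.homMk (U := W) (V := V) (pullback.lift (e ≫ h i₀).left b.left evX.symm)
      ((pullback.lift_fst_assoc _ _ _ _).trans (Over.w (e ≫ h i₀)))
    have mX : m ≫ vX = e ≫ h i₀ := Over.OverMorphism.ext (pullback.lift_fst _ _ _)
    have mU : m ≫ vU = b := Over.OverMorphism.ext (pullback.lift_snd _ _ _)
    have hmA : m.left w ∈ A := by
      let k : W ⟶ pbObj (h i₀) vX := pbLift (h i₀) vX e m mX.symm
      have hk : G.obj.map k.op (δ i₀) = 0 := by
        simp only [δ, map_sub, map_map_apply]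
        rw [pbLift_fst, reassoc_of% (pbLift_snd (h i₀) vX e m mX.symm), mU, hy, sub_self]
      have hz := zeroAt_descend (F := F) k (zeroAt_of_eq_zero (G := G) hk w)
      intro j q hq
      refine indep i₀ j (k.left w) q ?_ hz
      rw [← Scheme.Hom.comp_apply, ← Over.comp_left, pbLift_snd, hq]
    haveI : Etale vX.left := MorphismProperty.pullback_fst X.hom aU.hom inferInstance
    haveI : Etale ιA.left := inferInstanceAs (Etale A'.ι)
    refine ⟨WA, ιA ≫ vX, inferInstanceAs (Etale (_ ≫ _)), ⟨⟨m.left w, hmA⟩, ?_⟩,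
      G.obj.map (ιA ≫ vU).op (etaApp F U y), fun Z a i c ec => ?_⟩
    · show vX.left (m.left w) = t
      rw [← Scheme.Hom.comp_apply, ← Over.comp_left, mX, Over.comp_left, Scheme.Hom.comp_apply, hw, hp]
    · refine (sub_eq_zero.1 (eq_zero_of_zeroAt (G := G) fun z => ?_)).symm
      let k : Z ⟶ pbObj (h i) vX := pbLift (h i) vX c (a ≫ ιA) (ec.symm.trans (Category.assoc _ _ _).symm)
      have hk : G.obj.map c.op (s i) - G.obj.map a.op (G.obj.map (ιA ≫ vU).op (etaApp F U y)) =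
          G.obj.map k.op (δ i) := by
        simp only [δ, map_sub, map_map_apply]
        rw [pbLift_fst, reassoc_of% (pbLift_snd (h i) vX c (a ≫ ιA) (ec.symm.trans (Category.assoc _ _ _).symm))]
      rw [hk]
      refine zeroAt_pullback k ((a.left z).2 i _ ?_)
      rw [← Scheme.Hom.comp_apply, ← Over.comp_left, pbLift_snd]
      rfl
  let y' : Presieve.FamilyOfElements (G.obj ⋙ forget AddCommGrpCat.{u + 1}) L.arrows := fun Y g hg => hg.choose
  have hy' : y'.Compatible := by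
    intro Y₁ Y₂ Z g₁ g₂ f₁ f₂ hf₁ hf₂ e
    refine uniq (g₁ ≫ f₁) _ _ (fun Z' a i b eq => ?_) (fun Z' a i b eq => ?_)
    · refine (map_map_apply G.obj a g₁ (y' f₁ hf₁)).trans ?_
      exact hf₁.choose_spec Z' (a ≫ g₁) i b ((Category.assoc _ _ _).trans eq)
    · refine (map_map_apply G.obj a g₂ (y' f₂ hf₂)).trans ?_
      exact hf₂.choose_spec Z' (a ≫ g₂) i b (((Category.assoc _ _ _).trans (congrArg _ e.symm)).trans eq)
  obtain ⟨σ, hσ, -⟩ := (types_isSheaf G) L hL y' hy'
  have hσ' : IsLift (𝟙 X) σ := by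
    intro Z a i b eq
    refine eq_of_etale_locally (G := G) fun z => ?_
    obtain ⟨W, e, he, ⟨w, hw⟩, hWL⟩ : ∃ (W : Over S) (e : W ⟶ X), Etale e.left ∧
        (∃ w, e.left w = a.left z) ∧ L.arrows e := etale_points _ hL _
    obtain ⟨q, -, hq⟩ := pb_point e a hw
    refine ⟨pbObj e a, pbSnd e a, etale_pbSnd e a, ⟨q, hq⟩, ?_⟩
    rw [map_map_apply, map_map_apply, ← pb_condition, ← map_map_apply]
    refine (congrArg _ (hσ e hWL)).trans (hWL.choose_spec _ _ i _ ?_)
    rw [pb_condition, Category.assoc, ← eq, Category.comp_id]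
  have glift : ∀ {Y : Over S} (g : Y ⟶ X) (τ : G.obj.obj (op X)), IsLift (𝟙 X) τ → IsLift g (G.obj.map g.op τ) := by
    intro Y g τ hτ Z a i b e
    rw [map_map_apply]
    exact hτ Z (a ≫ g) i b ((Category.comp_id _).trans e)
  refine ⟨σ, fun Y g hg => uniq g _ _ (glift g σ hσ') (xlift g hg), fun τ hτ => ?_⟩
  refine uniq (𝟙 X) τ σ (fun Z a i b e => ?_) hσ'
  rw [Category.comp_id] at e
  subst e
  rw [← map_map_apply]
  exact congrArg _ (hτ (h i) (hmem i))
where
  etale_points {X : Over S} (L : Sieve X) (hL : L ∈ Je S X) (x : X.left) :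
      ∃ (W : Over S) (e : W ⟶ X), Etale e.left ∧ (∃ w, e.left w = x) ∧ L.arrows e := by
    have hS : Sieve.overEquiv X L ∈ Scheme.grothendieckTopology @Etale X.left := hL
    obtain ⟨𝒰, hle⟩ := Scheme.exists_cover_of_mem_grothendieckTopology hS
    obtain ⟨w, hw⟩ := 𝒰.covers x
    exact ⟨Over.mk (𝒰.f (𝒰.idx x) ≫ X.hom), Over.homMk (𝒰.f (𝒰.idx x)), 𝒰.map_prop _, ⟨w, hw⟩,
      (Sieve.overEquiv_iff L _).1 (hle _ _ ⟨𝒰.idx x⟩)⟩

end Groth.Agent.BigSiteLib
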