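import Groth.Agent.BigSiteLib.EtVCover
import Groth.Agent.BigSiteLib.EtFppfPull
import Groth.Agent.BigSiteLib.Counit
import Groth.Agent.S0157
import Groth.Agent.S8976
import Groth.Agent.S7473

/-!
# Inverse images to big h and ph sites
-/

set_option autoImplicit false
set_option backward.isDefEq.respectTransparency false
set_option backward.isDefEq.respectTransparency.types false
set_option maxHeartbeats 800000
universe u

namespace Groth.Agent.BigSiteLib

open CategoryTheory Limits AlgebraicGeometry Opposite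

variable {S : Scheme.{u}}

/-- `a⁻¹` to a finer site on which `π⁻¹ F` is a sheaf. -/
noncomputable def finerPullIso (J : GrothendieckTopology (Over S)) (hJ : QuotSh.J Scheme.etalePrecoverage S ≤ J)
    [(EtFppf.a S).IsContinuous S.smallEtaleTopology J] [HasSheafify J AddCommGrpCat.{u + 1}]
    [((EtFppf.a S).sheafPushforwardContinuous AddCommGrpCat.{u + 1} S.smallEtaleTopology J).IsRightAdjoint]
    (F : EtCoh.Ab S) (hF : Presheaf.IsSheaf J (piSheaf F).obj) :
    ((EtFppf.a S).sheafPullback AddCommGrpCat.{u + 1} S.smallEtaleTopology J).obj F ≅ ⟨(piSheaf F).obj, hF⟩ := by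
  let adj := (EtFppf.a S).sheafAdjunctionContinuous AddCommGrpCat.{u + 1} S.smallEtaleTopology J
  let L := ((EtFppf.a S).sheafPullback AddCommGrpCat.{u + 1} S.smallEtaleTopology J).obj F
  let P : Sheaf J AddCommGrpCat.{u + 1} := ⟨(piSheaf F).obj, hF⟩
  let Le : BigSite.Ab Scheme.etalePrecoverage S :=
    ⟨L.obj, (Presheaf.isSheaf_iff_isSheaf_forget _ _ (forget AddCommGrpCat.{u + 1})).2
      ((isSheaf_iff_isSheaf_of_type _ _).2 (Presieve.isSheaf_of_le _ hJ (types_isSheaf L)))⟩
  let η := adj.unit.app F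
  let η' := (BigSite.piEtAdj Scheme.etalePrecoverage S).unit.app F
  let v : F ⟶ ((EtFppf.a S).sheafPushforwardContinuous AddCommGrpCat.{u + 1} S.smallEtaleTopology J).obj P :=
    ⟨η'.hom⟩
  let v' : F ⟶ (BigSite.resEt Scheme.etalePrecoverage S).obj Le := ⟨η.hom⟩
  let α := (adj.homEquiv F P).symm v
  let β := ((BigSite.piEtAdj Scheme.etalePrecoverage S).homEquiv F Le).symm v'
  have hα : η.hom ≫ Functor.whiskerLeft (EtFppf.a S).op α.hom = η'.hom := by
    have := (adj.homEquiv_unit F P α).symm.trans (Equiv.apply_symm_apply _ v)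
    exact congrArg (fun t => t.hom) this
  have hβ : η'.hom ≫ Functor.whiskerLeft (EtFppf.a S).op β.hom = η.hom := by
    have := ((BigSite.piEtAdj Scheme.etalePrecoverage S).homEquiv_unit F _ β).symm.trans (Equiv.apply_symm_apply _ v')
    exact congrArg (fun t => t.hom) this
  let β₁ : P ⟶ L := ⟨β.hom⟩
  refine ⟨α, β₁, ?_, ?_⟩
  · apply (adj.homEquiv F _).injective
    rw [Adjunction.homEquiv_unit, Adjunction.homEquiv_unit, CategoryTheory.Functor.map_id]
    refine Eq.trans ?_ (Category.comp_id _).symm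
    apply ObjectProperty.hom_ext
    show η.hom ≫ Functor.whiskerLeft (EtFppf.a S).op (α.hom ≫ β.hom) = η.hom
    rw [Functor.whiskerLeft_comp, ← Category.assoc, hα, hβ]
  · apply ObjectProperty.hom_ext
    let γ : piSheaf F ⟶ piSheaf F := ⟨β.hom ≫ α.hom⟩
    have hγ : γ = 𝟙 _ := by
      apply ((BigSite.piEtAdj Scheme.etalePrecoverage S).homEquiv F _).injective
      rw [Adjunction.homEquiv_unit, Adjunction.homEquiv_unit, CategoryTheory.Functor.map_id]
      refine Eq.trans ?_ (Category.comp_id _).symm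
      apply ObjectProperty.hom_ext
      show η'.hom ≫ Functor.whiskerLeft (EtFppf.a S).op (β.hom ≫ α.hom) = η'.hom
      rw [Functor.whiskerLeft_comp, ← Category.assoc, hβ, hα]
    exact congrArg (fun t => t.hom) hγ

theorem isVCover_of_mem_etale {X : Scheme.{u}} {R : Presieve X} (hR : R ∈ Scheme.etalePrecoverage X) :
    ∃ E : PreZeroHypercover.{u + 1} X, E.presieve₀ = R ∧ HTop.IsVCover E ∧
      ∀ i, LocallyOfFinitePresentation (E.f i) := by
  obtain ⟨E, rfl⟩ := Precoverage.mem_iff_exists_zeroHypercover.1 hR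
  have hf : E.presieve₀ ∈ Scheme.fpqcPrecoverage X :=
    Scheme.fppfPrecoverage_le_fpqcPrecoverage _ (BigSite.etalePrecoverage_le_fppfPrecoverage _ E.mem₀)
  haveI := ((HTopV.mem_fpqc_iff E.toPreZeroHypercover).1 hf).1
  refine ⟨E.toPreZeroHypercover, rfl,
    HTopV.isVCover_of_flat_of_quasiCompactCover _ ((HTopV.mem_fpqc_iff E.toPreZeroHypercover).1 hf).2, fun i => ?_⟩
  haveI : Etale (E.f i) := E.mem₀.2 ⟨i⟩
  infer_instance

theorem etale_le_hPrecoverage : Scheme.etalePrecoverage.{u} ≤ HTop.hPrecoverage := fun X R hR => by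
  obtain ⟨E, rfl, hV, hl⟩ := isVCover_of_mem_etale hR
  exact (HTop.presieve₀_mem_hPrecoverage_iff E).2 ⟨hl, hV⟩

theorem etale_le_phPrecoverage : Scheme.etalePrecoverage.{u} ≤ HTop.phPrecoverage := fun X R hR => by
  obtain ⟨E, rfl, hV, hl⟩ := isVCover_of_mem_etale hR
  exact (HTop.presieve₀_mem_phPrecoverage_iff E).2 ((S8976.result E hl).2 hV)

/-- `a⁻¹ F` on the big h site. -/
noncomputable def aHPullIso [HTop.AHCont S] (F : EtCoh.Ab S) : (HTop.aHPull S).obj F ≅ piH F :=
  finerPullIso (HTop.Jh S) (BigSite.J_mono etale_le_hPrecoverage S) F (piH F).property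

/-- `a⁻¹ F` on the big ph site. -/
noncomputable def aPhPullIso [HTop.APhCont S] (F : EtCoh.Ab S) : (HTop.aPhPull S).obj F ≅ piPh F :=
  finerPullIso (HTop.Jph S) (BigSite.J_mono etale_le_phPrecoverage S) F (piPh F).property

/-- `π⁻¹` commutes with proper direct images on big h sites. -/
noncomputable def pushPiHIso {X Y : Scheme.{u}} (f : X ⟶ Y) [IsProper f] [HTop.PullHCont f] (F : EtCoh.Ab X) :
    piH ((EtCoh.push f).obj F) ≅ (HTop.pushBigH f).obj (piH F) :=
  (fullyFaithfulSheafToPresheaf (HTop.Jh Y) AddCommGrpCat.{u + 1}).preimageIso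
    (X := piH ((EtCoh.push f).obj F)) (Y := (HTop.pushBigH f).obj (piH F))
    ((sheafToPresheaf (QuotSh.J Scheme.etalePrecoverage Y) AddCommGrpCat.{u + 1}).mapIso
      (piPushIso f (fun g g' f' c F' => S0157.result f f' g' g c F') F))

/-- `π⁻¹` commutes with proper direct images on big ph sites. -/
noncomputable def pushPiPhIso {X Y : Scheme.{u}} (f : X ⟶ Y) [IsProper f] [HTop.PullPhCont f] (F : EtCoh.Ab X) :
    piPh ((EtCoh.push f).obj F) ≅ (HTop.pushBigPh f).obj (piPh F) :=
  (fullyFaithfulSheafToPresheaf (HTop.Jph Y) AddCommGrpCat.{u + 1}).preimageIso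
    (X := piPh ((EtCoh.push f).obj F)) (Y := (HTop.pushBigPh f).obj (piPh F))
    ((sheafToPresheaf (QuotSh.J Scheme.etalePrecoverage Y) AddCommGrpCat.{u + 1}).mapIso
      (piPushIso f (fun g g' f' c F' => S0157.result f f' g' g c F') F))

end Groth.Agent.BigSiteLib
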