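import Groth.Agent.BigSiteLib.EtFpqc
import Groth.Agent.HTopSheaf.Criteria
import Groth.Agent.HTopV.Quot

/-!
# Sheaves pulled back from the small etale site satisfy descent along V coverings
-/

set_option autoImplicit false
set_option backward.isDefEq.respectTransparency false
set_option backward.isDefEq.respectTransparency.types false
set_option maxHeartbeats 800000
universe w u

namespace Groth.Agent.BigSiteLib

open CategoryTheory Limits AlgebraicGeometry Opposite

local notation "Je" => QuotSh.J Scheme.etalePrecoverage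

variable {S : Scheme.{u}}

/-- Descent along a surjective family whose base changes detect openness. -/
theorem isSheafFor_piSheaf_of_submersive (F : EtCoh.Ab S) {X : Over S} (R : Sieve X) {ι : Type w} {T : ι → Over S}
    (h : ∀ i, T i ⟶ X) (hmem : ∀ i, R.arrows (h i))
    (hsurj : ∀ z : X.left, ∃ i p, (h i).left p = z)
    (hop : ∀ (V : Over S) (v : V ⟶ X) (A : Set V.left),
      (∀ i, IsOpen ((pbSnd (h i) v).left ⁻¹' A)) → IsOpen A) :
    Presieve.IsSheafFor ((piSheaf F).obj ⋙ forget AddCommGrpCat.{u + 1}) R.arrows := by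
  intro x hx
  let G := piSheaf F
  let s : ∀ i, G.obj.obj (op (T i)) := fun i => x (h i) (hmem i)
  have scompat : ∀ {Z : Over S} (i j) (a : Z ⟶ T i) (b : Z ⟶ T j), a ≫ h i = b ≫ h j →
      G.obj.map a.op (s i) = G.obj.map b.op (s j) := fun i j a b e => hx a b (hmem i) (hmem j) e
  let IsLift : ∀ {Y : Over S}, (Y ⟶ X) → G.obj.obj (op Y) → Prop := fun {Y} g y =>
    ∀ (Z : Over S) (a : Z ⟶ Y) (i) (b : Z ⟶ T i), a ≫ g = b ≫ h i → G.obj.map a.op y = G.obj.map b.op (s i)
  have uniq : ∀ {Y : Over S} (g : Y ⟶ X) (y y' : G.obj.obj (op Y)), IsLift g y → IsLift g y' → y = y' := by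
    intro Y g y y' hy hy'
    refine sub_eq_zero.1 (eq_zero_of_zeroAt (G := G) fun z => ?_)
    obtain ⟨i, p, hp⟩ := hsurj (g.left z)
    obtain ⟨q, hq, -⟩ := pb_point g (h i) hp.symm
    rw [← hq]
    refine zeroAt_descend (F := F) _ (zeroAt_of_eq_zero (G := G) ?_ q)
    rw [map_sub, hy _ _ i _ (pb_condition g (h i)), hy' _ _ i _ (pb_condition g (h i)), sub_self]
  have xlift : ∀ {Y : Over S} (g : Y ⟶ X) (hg : R.arrows g), IsLift g (x g hg) :=
    fun g hg Z a i b e => hx a b hg (hmem i) e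
  let L : Sieve X :=
    { arrows := fun Y g => ∃ y, IsLift g y
      downward_closed := fun {Y Y'} g ⟨y, hy⟩ k => ⟨G.obj.map k.op y, fun Z a i b e => by
        rw [map_map_apply]
        exact hy Z (a ≫ k) i b ((Category.assoc _ _ _).trans e)⟩ }
  have hL : L ∈ Je S X := etale_sieve_mem L fun t => by
    obtain ⟨i₀, p, hp⟩ := hsurj t
    obtain ⟨W, e, he, ⟨w, hw⟩, U, b, y, hy⟩ := zeroAt_descend.exists_rep (F := F) (s i₀) p
    let aU := (EtFppf.a S).obj U
    haveI : Etale aU.hom := U.prop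
    let V : Over S := Over.mk (pullback.fst X.hom aU.hom ≫ X.hom)
    let vX : V ⟶ X := Over.homMk (U := V) (V := X) (pullback.fst X.hom aU.hom) rfl
    let vU : V ⟶ aU := Over.homMk (U := V) (V := aU) (pullback.snd X.hom aU.hom) pullback.condition.symm
    let δ : ∀ i, G.obj.obj (op (pbObj (h i) vX)) := fun i =>
      G.obj.map (pbFst (h i) vX).op (s i) - G.obj.map (pbSnd (h i) vX ≫ vU).op (etaApp F U y)
    have indep : ∀ i j (q : (pbObj (h i) vX).left) (q' : (pbObj (h j) vX).left),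
        (pbSnd (h i) vX).left q = (pbSnd (h j) vX).left q' → ZeroAt G (δ i) q → ZeroAt G (δ j) q' := by
      intro i j q q' eq hz
      obtain ⟨r, hr₁, hr₂⟩ := pb_point (pbSnd (h i) vX) (pbSnd (h j) vX) eq
      let r₁ := pbFst (pbSnd (h i) vX) (pbSnd (h j) vX)
      let r₂ := pbSnd (pbSnd (h i) vX) (pbSnd (h j) vX)
      have ec : r₁ ≫ pbSnd (h i) vX = r₂ ≫ pbSnd (h j) vX := pb_condition _ _
      have e1 : G.obj.map r₁.op (δ i) = G.obj.map r₂.op (δ j) := by
        simp only [δ, map_sub, map_map_apply]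
        congr 1
        · refine scompat i j _ _ ?_
          rw [Category.assoc, Category.assoc, pb_condition, pb_condition, reassoc_of% ec]
        · rw [reassoc_of% ec]
      rw [← hr₂]
      refine zeroAt_descend (F := F) r₂ ?_
      rw [← e1]
      exact zeroAt_pullback r₁ (by rw [hr₁]; exact hz)
    let A : Set V.left := {v | ∀ i q, (pbSnd (h i) vX).left q = v → ZeroAt G (δ i) q}
    have hA : IsOpen A := hop V vX A fun i => by
      convert isOpen_zeroAt (G := G) (δ i) using 1
      ext q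
      exact ⟨fun hq => hq i q rfl, fun hq j q' hq' => indep i j q q' hq'.symm hq⟩
    let A' : V.left.Opens := ⟨A, hA⟩
    let WA : Over S := Over.mk (A'.ι ≫ V.hom)
    let ιA : WA ⟶ V := Over.homMk (U := WA) (V := V) A'.ι rfl
    have evX : (b.left ≫ aU.hom) = (e ≫ h i₀).left ≫ X.hom := (Over.w b).trans (Over.w (e ≫ h i₀)).symm
    let m : W ⟶ V := Over.homMk (U := W) (V := V) (pullback.lift (e ≫ h i₀).left b.left evX.symm)
      ((pullback.lift_fst_assoc _ _ _ _).trans (Over.w (e ≫ h i₀)))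
    have mX : m ≫ vX = e ≫ h i₀ := Over.OverMorphism.ext (pullback.lift_fst _ _ _)
    have mU : m ≫ vU = b := Over.OverMorphism.ext (pullback.lift_snd _ _ _)
    have hmA : m.left w ∈ A := by
      let k : W ⟶ pbObj (h i₀) vX := pbLift (h i₀) vX e m mX.symm
      have hk : G.obj.map k.op (δ i₀) = 0 := by
        simp only [δ, map_sub, map_map_apply]
        rw [pbLift_fst, reassoc_of% (pbLift_snd (h i₀) vX e m mX.symm), mU, hy, sub_self]
      have hz := zeroAt_descend (F := F) k (zeroAt_of_eq_zero (G := G) hk w)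
      intro j q hq
      refine indep i₀ j (k.left w) q ?_ hz
      rw [← Scheme.Hom.comp_apply, ← Over.comp_left, pbLift_snd, hq]
    haveI : Etale vX.left := MorphismProperty.pullback_fst X.hom aU.hom inferInstance
    haveI : Etale ιA.left := inferInstanceAs (Etale A'.ι)
    refine ⟨WA, ιA ≫ vX, inferInstanceAs (Etale (_ ≫ _)), ⟨⟨m.left w, hmA⟩, ?_⟩,
      G.obj.map (ιA ≫ vU).op (etaApp F U y), fun Z a i c ec => ?_⟩
    · show vX.left (m.left w) = t
      rw [← Scheme.Hom.comp_apply, ← Over.comp_left, mX, Over.comp_left, Scheme.Hom.comp_apply, hw, hp]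
    · refine (sub_eq_zero.1 (eq_zero_of_zeroAt (G := G) fun z => ?_)).symm
      let k : Z ⟶ pbObj (h i) vX := pbLift (h i) vX c (a ≫ ιA) (ec.symm.trans (Category.assoc _ _ _).symm)
      have hk : G.obj.map c.op (s i) - G.obj.map a.op (G.obj.map (ιA ≫ vU).op (etaApp F U y)) =
          G.obj.map k.op (δ i) := by
        simp only [δ, map_sub, map_map_apply]
        rw [pbLift_fst, reassoc_of% (pbLift_snd (h i) vX c (a ≫ ιA) (ec.symm.trans (Category.assoc _ _ _).symm))]
      rw [hk]
      refine zeroAt_pullback k ((a.left z).2 i _ ?_)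
      rw [← Scheme.Hom.comp_apply, ← Over.comp_left, pbLift_snd]
      rfl
  let y' : Presieve.FamilyOfElements (G.obj ⋙ forget AddCommGrpCat.{u + 1}) L.arrows := fun Y g hg => hg.choose
  have hy' : y'.Compatible := by
    intro Y₁ Y₂ Z g₁ g₂ f₁ f₂ hf₁ hf₂ e
    refine uniq (g₁ ≫ f₁) _ _ (fun Z' a i b eq => ?_) (fun Z' a i b eq => ?_)
    · refine (map_map_apply G.obj a g₁ (y' f₁ hf₁)).trans ?_
      exact hf₁.choose_spec Z' (a ≫ g₁) i b ((Category.assoc _ _ _).trans eq)
    · refine (map_map_apply G.obj a g₂ (y' f₂ hf₂)).trans ?_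
      exact hf₂.choose_spec Z' (a ≫ g₂) i b (((Category.assoc _ _ _).trans (congrArg _ e.symm)).trans eq)
  obtain ⟨σ, hσ, -⟩ := (types_isSheaf G) L hL y' hy'
  have hσ' : IsLift (𝟙 X) σ := by
    intro Z a i b eq
    refine eq_of_etale_locally (G := G) fun z => ?_
    obtain ⟨W, e, he, ⟨w, hw⟩, hWL⟩ : ∃ (W : Over S) (e : W ⟶ X), Etale e.left ∧
        (∃ w, e.left w = a.left z) ∧ L.arrows e := isSheaf_fpqc_piSheaf.etale_points _ hL _
    obtain ⟨q, -, hq⟩ := pb_point e a hw
    refine ⟨pbObj e a, pbSnd e a, etale_pbSnd e a, ⟨q, hq⟩, ?_⟩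
    rw [map_map_apply, map_map_apply, ← pb_condition, ← map_map_apply]
    refine (congrArg _ (hσ e hWL)).trans (hWL.choose_spec _ _ i _ ?_)
    rw [pb_condition, Category.assoc, ← eq, Category.comp_id]
  have glift : ∀ {Y : Over S} (g : Y ⟶ X) (τ : G.obj.obj (op X)), IsLift (𝟙 X) τ → IsLift g (G.obj.map g.op τ) := by
    intro Y g τ hτ Z a i b e
    rw [map_map_apply]
    exact hτ Z (a ≫ g) i b ((Category.comp_id _).trans e)
  refine ⟨σ, fun Y g hg => uniq g _ _ (glift g σ hσ') (xlift g hg), fun τ hτ => ?_⟩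
  refine uniq (𝟙 X) τ σ (fun Z a i b e => ?_) hσ'
  rw [Category.comp_id] at e
  subst e
  rw [← map_map_apply]
  exact congrArg _ (hτ (h i) (hmem i))

theorem isOpen_of_isVCover {T : Scheme.{u}} {E : PreZeroHypercover.{w} T} (hE : HTop.IsVCover E) {A : Set T}
    (hA : ∀ i, IsOpen (E.f i ⁻¹' A)) : IsOpen A :=
  isClosed_compl_iff.1 (HTopV.isClosed_of_isVCover hE fun i => by
    rw [Set.preimage_compl]
    exact (hA i).isClosed_compl)

/-- Descent along V coverings. -/
theorem isSheafFor_piSheaf_of_isVCover (F : EtCoh.Ab S) {X : Over S} (R : Sieve X)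
    {E : PreZeroHypercover.{w} X.left} (hE : HTop.IsVCover E)
    (hR : ∀ i, R.arrows (Over.homMk (E.f i) : Over.mk (E.f i ≫ X.hom) ⟶ X)) :
    Presieve.IsSheafFor ((piSheaf F).obj ⋙ forget AddCommGrpCat.{u + 1}) R.arrows := by
  refine isSheafFor_piSheaf_of_submersive F R (T := fun i => Over.mk (E.f i ≫ X.hom)) (fun i => Over.homMk (E.f i))
    hR (fun z => ?_) fun V v A hA => ?_
  · obtain ⟨i, p, hp⟩ := HTopV.surjective_of_hasValLift hE.hasValLift' z
    exact ⟨i, p, hp⟩
  · refine isOpen_of_isVCover (E := E.pullback₁ v.left) (HTopV.isVCover_pullback₁ v.left hE) fun i => ?_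
    have h1 : pullback.fst v.left (E.f i) =
        (pullbackSymmetry v.left (E.f i)).hom ≫ pullback.snd (E.f i) v.left := (pullbackSymmetry_hom_comp_snd _ _).symm
    show IsOpen (pullback.fst v.left (E.f i) ⁻¹' A)
    rw [h1, Scheme.Hom.comp_base, TopCat.coe_comp, Set.preimage_comp]
    exact (hA i).preimage (pullbackSymmetry v.left (E.f i)).hom.continuous

/-- A sheaf for the topology generated by a precoverage of V coverings. -/
theorem isSheaf_piSheaf_of_vCoverage (F : EtCoh.Ab S) (K : Precoverage Scheme.{u})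
    (hK : ∀ {X : Scheme.{u}} (E : PreZeroHypercover.{u + 1} X), E.presieve₀ ∈ K X → HTop.IsVCover E) :
    Presheaf.IsSheaf (K.toGrothendieck.over S) (piSheaf F).obj := by
  refine (Presheaf.isSheaf_iff_isSheaf_forget _ _ (forget AddCommGrpCat.{u + 1})).2 ?_
  rw [isSheaf_iff_isSheaf_of_type]
  refine HTopSheaf.isSheaf_over_toGrothendieck fun X R hR Y f Z k => ?_
  obtain ⟨E, rfl⟩ := Precoverage.mem_iff_exists_zeroHypercover.1 hR
  refine isSheafFor_piSheaf_of_isVCover F _
    (HTopV.isVCover_pullback₁ (k.left ≫ f) (hK E.toPreZeroHypercover E.mem₀)) fun i => ?_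
  show (Sieve.overEquiv Y).symm ((Sieve.generate E.presieve₀).pullback f) _
  refine (Sieve.overEquiv_symm_iff _ _).2 ⟨_, pullback.snd (k.left ≫ f) (E.f i), E.f i, ⟨i⟩, ?_⟩
  exact (pullback.condition).symm.trans (Category.assoc _ _ _).symm

/-- `π⁻¹ F` as a sheaf on the big h site. -/
noncomputable def piH (F : EtCoh.Ab S) : HTop.AbH S :=
  ⟨(piSheaf F).obj, isSheaf_piSheaf_of_vCoverage F HTop.hPrecoverage
    fun E hE => ((HTop.presieve₀_mem_hPrecoverage_iff E).1 hE).2⟩

/-- `π⁻¹ F` as a sheaf on the big ph site. -/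
noncomputable def piPh (F : EtCoh.Ab S) : HTop.AbPh S :=
  ⟨(piSheaf F).obj, isSheaf_piSheaf_of_vCoverage F HTop.phPrecoverage
    fun E hE => HTopPh.isVCover_of_isPhCover ((HTop.presieve₀_mem_phPrecoverage_iff E).1 hE)⟩

end Groth.Agent.BigSiteLib
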