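import Groth.Agent.BigSiteLib.Basic

/-!
# Local description of sheaves pulled back from the small etale site to the big etale site
-/

set_option autoImplicit false
set_option backward.isDefEq.respectTransparency false
set_option backward.isDefEq.respectTransparency.types false
set_option maxHeartbeats 800000
universe u

namespace Groth.Agent.BigSiteLib

open CategoryTheory Limits AlgebraicGeometry Opposite

variable {S : Scheme.{u}} (F : EtCoh.Ab S)

/-- The left Kan extension of an etale sheaf to the big site. -/
noncomputable abbrev lanPre : (Over S)ᵒᵖ ⥤ AddCommGrpCat.{u + 1} := (EtFppf.a S).op.lan.obj F.obj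

/-- The sheaf pulled back to the big etale site. -/
noncomputable abbrev piSheaf : BigSite.Ab Scheme.etalePrecoverage S :=
  (BigSite.piEtPull Scheme.etalePrecoverage S).obj F

/-- The unit of `π⁻¹ ⊣ π_*` on sections. -/
noncomputable def etaApp (U : S.Etale) : F.obj.obj (op U) ⟶ (piSheaf F).obj.obj (op ((EtFppf.a S).obj U)) :=
  ((BigSite.piEtAdj Scheme.etalePrecoverage S).unit.app F).hom.app (op U)

theorem etaApp_naturality {U V : S.Etale} (k : V ⟶ U) (y : F.obj.obj (op U)) :
    (piSheaf F).obj.map ((EtFppf.a S).map k).op (etaApp F U y) = etaApp F V (F.obj.map k.op y) :=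
  (NatTrans.naturality_apply ((BigSite.piEtAdj Scheme.etalePrecoverage S).unit.app F).hom k.op y).symm

/-- The comparison from the left Kan extension. -/
noncomputable def lanToPi : lanPre F ⟶ (piSheaf F).obj :=
  toSheafify (QuotSh.J Scheme.etalePrecoverage S) (lanPre F) ≫
    ((Functor.sheafPullbackConstruction.sheafPullbackIso (EtFppf.a S) AddCommGrpCat.{u + 1}
      S.smallEtaleTopology (QuotSh.J Scheme.etalePrecoverage S)).inv.app F).hom

theorem W_lanToPi : (QuotSh.J Scheme.etalePrecoverage S).W (lanToPi F) := by
  let i := (sheafToPresheaf _ _).mapIso ((Functor.sheafPullbackConstruction.sheafPullbackIso (EtFppf.a S)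
    AddCommGrpCat.{u + 1} S.smallEtaleTopology (QuotSh.J Scheme.etalePrecoverage S)).app F)
  exact (MorphismProperty.cancel_right_of_respectsIso _ _ i.inv).2 (GrothendieckTopology.W_toSheafify _ _)

theorem lanToPi_unit (U : S.Etale) :
    ((EtFppf.a S).op.lanUnit.app F.obj).app (op U) ≫ (lanToPi F).app (op ((EtFppf.a S).obj U)) = etaApp F U := by
  let adj₀ := Functor.sheafPullbackConstruction.sheafAdjunctionContinuous (EtFppf.a S) AddCommGrpCat.{u + 1}
    S.smallEtaleTopology (QuotSh.J Scheme.etalePrecoverage S)
  have h : adj₀.unit.app F ≫ (BigSite.resEt Scheme.etalePrecoverage S).map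
      ((Functor.sheafPullbackConstruction.sheafPullbackIso (EtFppf.a S) AddCommGrpCat.{u + 1}
        S.smallEtaleTopology (QuotSh.J Scheme.etalePrecoverage S)).inv.app F) =
      (BigSite.piEtAdj Scheme.etalePrecoverage S).unit.app F :=
    Adjunction.unit_leftAdjointUniq_hom_app adj₀ (BigSite.piEtAdj Scheme.etalePrecoverage S) F
  have h' := congrArg (fun t => t.hom.app (op U)) h
  refine Eq.trans ?_ h'
  simp [lanToPi, adj₀, Functor.sheafPullbackConstruction.sheafAdjunctionContinuous, Functor.lanAdjunction_unit]
  rfl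

/-- Every element of the left Kan extension is pulled back from an etale `S`-scheme. -/
theorem exists_lan_rep {X : Over S} (t : (lanPre F).obj (op X)) :
    ∃ (U : S.Etale) (b : X ⟶ (EtFppf.a S).obj U) (y : F.obj.obj (op U)),
      (lanPre F).map b.op (((EtFppf.a S).op.lanUnit.app F.obj).app (op U) y) = t := by
  haveI := representablyFlat_etIncl S
  haveI : IsFiltered (CostructuredArrow (EtFppf.a S).op (op X)) :=
    IsFiltered.of_equivalence (structuredArrowOpEquivalence (EtFppf.a S) X)
  haveI : IsFiltered (AsSmall.{u + 1} (CostructuredArrow (EtFppf.a S).op (op X))) :=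
    IsFiltered.of_equivalence AsSmall.equiv
  haveI : PreservesColimitsOfShape (CostructuredArrow (EtFppf.a S).op (op X)) (forget AddCommGrpCat.{u + 1}) :=
    preservesColimitsOfShape_of_equiv (AsSmall.equiv (C := CostructuredArrow (EtFppf.a S).op (op X))).symm _
  obtain ⟨g, y, hy⟩ := Concrete.isColimit_exists_rep _
    (Functor.isPointwiseLeftKanExtensionLeftKanExtensionUnit (EtFppf.a S).op F.obj (op X)) t
  exact ⟨g.left.unop, g.hom.unop, y, hy⟩

/-- A representative of zero in the left Kan extension dies on a refinement. -/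
theorem exists_lan_rep_zero {X : Over S} {U : S.Etale} (b : X ⟶ (EtFppf.a S).obj U) (y : F.obj.obj (op U))
    (h : (lanPre F).map b.op (((EtFppf.a S).op.lanUnit.app F.obj).app (op U) y) = 0) :
    ∃ (V : S.Etale) (k : V ⟶ U) (c : X ⟶ (EtFppf.a S).obj V),
      c ≫ (EtFppf.a S).map k = b ∧ F.obj.map k.op y = 0 := by
  haveI := representablyFlat_etIncl S
  haveI : IsFiltered (CostructuredArrow (EtFppf.a S).op (op X)) :=
    IsFiltered.of_equivalence (structuredArrowOpEquivalence (EtFppf.a S) X)
  haveI : IsFiltered (AsSmall.{u + 1} (CostructuredArrow (EtFppf.a S).op (op X))) :=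
    IsFiltered.of_equivalence AsSmall.equiv
  haveI : PreservesColimitsOfShape (CostructuredArrow (EtFppf.a S).op (op X)) (forget AddCommGrpCat.{u + 1}) :=
    preservesColimitsOfShape_of_equiv (AsSmall.equiv (C := CostructuredArrow (EtFppf.a S).op (op X))).symm _
  let g₀ : CostructuredArrow (EtFppf.a S).op (op X) := CostructuredArrow.mk (Y := op U) b.op
  obtain ⟨g, m₁, m₂, hm⟩ := (Concrete.isColimit_rep_eq_iff_exists _
    (Functor.isPointwiseLeftKanExtensionLeftKanExtensionUnit (EtFppf.a S).op F.obj (op X))
    (i := g₀) (j := g₀) y 0).1 (h.trans (map_zero _).symm)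
  refine ⟨g.left.unop, m₁.left.unop, g.hom.unop, congrArg Quiver.Hom.unop (CostructuredArrow.w m₁), ?_⟩
  exact hm.trans (map_zero _)

end Groth.Agent.BigSiteLib
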