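import Groth.Agent.BigSiteLib.Counit
import Groth.Prelude.Def_SGA4b
import Groth.Prelude.Def_EtBCD

/-!
# Small and big etale sites: sheaves of sets
-/

set_option autoImplicit false
set_option backward.isDefEq.respectTransparency false
set_option backward.isDefEq.respectTransparency.types false
set_option maxHeartbeats 1600000
universe u

namespace Groth.Agent.BigSiteSetLib

open CategoryTheory Limits AlgebraicGeometry Opposite
open Groth.Agent.BigSiteLib (bcIso bcObjIso topOverIso)

local notation "Ke" => Scheme.etalePrecoverage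

variable (K : Precoverage Scheme.{u}) (S : Scheme.{u})

/-- Sheaves of sets on a big site. -/
abbrev Sh : Type (u + 2) := Sheaf (QuotSh.J K S) (Type (u + 1))

/-- Restriction to the small etale site. -/
noncomputable abbrev resS [BigSite.AEtCont K S] : Sh K S ⥤ EtDesc.Sh S :=
  (EtFppf.a S).sheafPushforwardContinuous (Type (u + 1)) S.smallEtaleTopology (QuotSh.J K S)

/-- Inverse image from the small etale site. -/
noncomputable abbrev piS [BigSite.AEtCont K S] : EtDesc.Sh S ⥤ Sh K S :=
  (EtFppf.a S).sheafPullback (Type (u + 1)) S.smallEtaleTopology (QuotSh.J K S)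

/-- The adjunction with restriction. -/
noncomputable abbrev piSAdj [BigSite.AEtCont K S] : piS K S ⊣ resS K S :=
  (EtFppf.a S).sheafAdjunctionContinuous (Type (u + 1)) S.smallEtaleTopology (QuotSh.J K S)

/-- The right adjoint of restriction. -/
noncomputable abbrev iS [BigSite.AEtCont K S] [BigSite.AEtCocont K S] : EtDesc.Sh S ⥤ Sh K S :=
  (EtFppf.a S).sheafPushforwardCocontinuous (Type (u + 1)) S.smallEtaleTopology (QuotSh.J K S)

/-- Its adjunction. -/
noncomputable abbrev iSAdj [BigSite.AEtCont K S] [BigSite.AEtCocont K S] : resS K S ⊣ iS K S :=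
  (EtFppf.a S).sheafAdjunctionCocontinuous (Type (u + 1)) S.smallEtaleTopology (QuotSh.J K S)

variable {S}

/-- Restriction along a morphism. -/
noncomputable abbrev resAlongS {T : Scheme.{u}} (f : T ⟶ S) [BigSite.AEtCont K T] : Sh K S ⥤ EtDesc.Sh T :=
  BigSite.pullBig K f (Type (u + 1)) ⋙ resS K T

/-- Global sections. -/
noncomputable abbrev gsecS (X : Scheme.{u}) : EtDesc.Sh X ⥤ Type (u + 1) :=
  sheafToPresheaf _ _ ⋙ (evaluation _ _).obj (op (EtCoh.top X))

end Groth.Agent.BigSiteSetLib

namespace Groth.Agent.BigSiteSetLib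

open CategoryTheory Limits AlgebraicGeometry Opposite
open Groth.Agent.BigSiteLib (bcIso bcObjIso topOverIso)

local notation "Ke" => Scheme.etalePrecoverage

variable {T S T' S' : Scheme.{u}}

/-- Base change of direct images of big sheaves. -/
noncomputable def pushPullIso (K : Precoverage Scheme.{u}) {f : T ⟶ S} {g : S' ⟶ S} {g' : T' ⟶ T} {f' : T' ⟶ S'} (c : IsPullback g' f' f g) :
    BigSite.pushBig K f (Type (u + 1)) ⋙ BigSite.pullBig K g (Type (u + 1)) ≅
      BigSite.pullBig K g' (Type (u + 1)) ⋙ BigSite.pushBig K f' (Type (u + 1)) :=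
  haveI := Functor.isContinuous_comp (Over.map g) (Over.pullback f) (QuotSh.J K S') (QuotSh.J K S) (QuotSh.J K T)
  haveI := Functor.isContinuous_comp (Over.pullback f') (Over.map g') (QuotSh.J K S') (QuotSh.J K T') (QuotSh.J K T)
  Functor.sheafPushforwardContinuousIso (bcIso c) (Type (u + 1)) (QuotSh.J K S') (QuotSh.J K T)

section Etale

variable {X Y : Scheme.{u}} (f : X ⟶ Y)

/-- Restriction to the small etale sites commutes with direct images. -/
noncomputable def pushResIso (K : Precoverage Scheme.{u}) [BigSite.AEtCont K X] [BigSite.AEtCont K Y] :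
    BigSite.pushBig K f (Type (u + 1)) ⋙ resS K Y ≅
      resS K X ⋙ EtDesc.pushSh f :=
  haveI := Functor.isContinuous_comp (EtFppf.a Y) (Over.pullback f) Y.smallEtaleTopology (QuotSh.J K Y) (QuotSh.J K X)
  haveI := Functor.isContinuous_comp (EtCoh.bc f) (EtFppf.a X) Y.smallEtaleTopology X.smallEtaleTopology (QuotSh.J K X)
  let e : EtFppf.a Y ⋙ Over.pullback f ≅ EtCoh.bc f ⋙ EtFppf.a X :=
    (MorphismProperty.Over.pullbackCompForgetIso (P := EtCoh.etaleMP) (Q := ⊤) f).symm
  Functor.sheafPushforwardContinuousIso (F := EtFppf.a Y ⋙ Over.pullback f) (F' := EtCoh.bc f ⋙ EtFppf.a X) e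
    (Type (u + 1)) Y.smallEtaleTopology (QuotSh.J K X)

end Etale

theorem isIso_iEtAdj_counit (X : Scheme.{u}) : IsIso (iSAdj Scheme.etalePrecoverage X).counit := by
  haveI : (EtFppf.a X).Full := inferInstanceAs (Scheme.Etale.forget X).Full
  haveI : (EtFppf.a X).Faithful := inferInstanceAs (Scheme.Etale.forget X).Faithful
  haveI : ∀ F, IsIso ((iSAdj Scheme.etalePrecoverage X).counit.app F) := fun F => by
    refine (isIso_iff_of_reflects_iso _ (sheafToPresheaf X.smallEtaleTopology (Type (u + 1)))).1 ?_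
    show IsIso ((iSAdj Scheme.etalePrecoverage X).counit.app F).hom
    rw [(EtFppf.a X).sheafAdjunctionCocontinuous_counit_app_hom (Type (u + 1)) X.smallEtaleTopology
      (QuotSh.J Scheme.etalePrecoverage X) F]
    infer_instance
  exact NatIso.isIso_of_isIso_app _

/-- `(π_S⁻¹ F)|_{T_et} ≅ f⁻¹ F`. -/
noncomputable def resAlongPullIso (f : T ⟶ S) :
    piS Scheme.etalePrecoverage S ⋙ resAlongS Scheme.etalePrecoverage f ≅ EtDesc.pullSh f :=
  haveI := isIso_iEtAdj_counit T
  let K := Scheme.etalePrecoverage.{u}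
  let e : (iS K T ⋙ BigSite.pushBig K f (Type (u + 1))) ⋙ resS K S ≅ EtDesc.pushSh f :=
    Functor.associator _ _ _ ≪≫ Functor.isoWhiskerLeft _ (pushResIso f K) ≪≫ (Functor.associator _ _ _).symm ≪≫
      Functor.isoWhiskerRight (asIso (iSAdj K T).counit) (EtDesc.pushSh f) ≪≫ Functor.leftUnitor _
  Adjunction.leftAdjointUniq
    (((piSAdj K S).comp ((BigSite.bigAdj K f (Type (u + 1))).comp (iSAdj K T))).ofNatIsoRight e)
    (EtDesc.adjSh f)

/-- Restriction maps `G|_{S_et} ⟶ g_* (G|_{S'_et})` of a big sheaf. -/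
noncomputable def restrMap (g : S' ⟶ S) (G : Sh Ke S) :
    (resS Ke S).obj G ⟶ (EtDesc.pushSh g).obj ((resAlongS Ke g).obj G) :=
  (resS Ke S).map ((BigSite.bigAdj Ke g (Type (u + 1))).unit.app G) ≫
    (pushResIso g Ke).hom.app ((BigSite.pullBig Ke g (Type (u + 1))).obj G)

/-- The restricted counit is adjoint to the restriction map. -/
theorem homEquiv_resAlong_counit (g : S' ⟶ S) (G : Sh Ke S) :
    (EtDesc.adjSh g).homEquiv ((resS Ke S).obj G) ((resAlongS Ke g).obj G)
      ((resAlongPullIso g).inv.app ((resS Ke S).obj G) ≫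
        (resAlongS Ke g).map ((piSAdj Ke S).counit.app G)) = restrMap g G := by
  haveI := isIso_iEtAdj_counit S'
  let RS := resS Ke S
  let RT := resS Ke S'
  let I := iS Ke S'
  let PB := BigSite.pushBig Ke g (Type (u + 1))
  let P := (BigSite.pullBig Ke g (Type (u + 1))).obj G
  let X := RS.obj G
  let ε := (piSAdj Ke S).counit.app G
  let adj₂ := (BigSite.bigAdj Ke g (Type (u + 1))).comp (iSAdj Ke S')
  let e : (I ⋙ PB) ⋙ RS ≅ EtDesc.pushSh g :=
    Functor.associator _ _ _ ≪≫ Functor.isoWhiskerLeft _ (pushResIso g Ke) ≪≫ (Functor.associator _ _ _).symm ≪≫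
      Functor.isoWhiskerRight (asIso (iSAdj Ke S').counit) (EtDesc.pushSh g) ≪≫ Functor.leftUnitor _
  let adj₁ := ((piSAdj Ke S).comp adj₂).ofNatIsoRight e
  have h1 : (EtDesc.adjSh g).unit.app X ≫ (EtDesc.pushSh g).map ((resAlongPullIso g).inv.app X) =
      adj₁.unit.app X := Adjunction.unit_leftAdjointUniq_hom_app (EtDesc.adjSh g) adj₁ X
  rw [Adjunction.homEquiv_unit, Functor.map_comp]
  refine ((Category.assoc _ _ _).symm.trans (congrArg (fun t => t ≫ _) h1)).trans ?_
  have h2 : adj₁.unit.app X = ((piSAdj Ke S).unit.app X ≫ RS.map (adj₂.unit.app _)) ≫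
      e.hom.app _ := by
    simp [adj₁, Adjunction.ofNatIsoRight, Adjunction.comp_unit_app, RS]
  rw [h2]
  have h3 : e.hom.app (((BigSite.pullBig Ke g (Type (u + 1))) ⋙ RT).obj ((piS Ke S).obj X)) ≫
      (EtDesc.pushSh g).map ((resAlongS Ke g).map ε) =
      RS.map ((I ⋙ PB).map ((resAlongS Ke g).map ε)) ≫ e.hom.app (RT.obj P) :=
    (e.hom.naturality _).symm
  have h4 : RS.map (adj₂.unit.app ((piS Ke S).obj X)) ≫
      RS.map ((I ⋙ PB).map ((resAlongS Ke g).map ε)) = RS.map ε ≫ RS.map (adj₂.unit.app G) := by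
    rw [← Functor.map_comp, ← Functor.map_comp]
    exact congrArg _ (adj₂.unit.naturality ε).symm
  have h5 : (piSAdj Ke S).unit.app X ≫ RS.map ε = 𝟙 X :=
    (piSAdj Ke S).right_triangle_components G
  refine (Category.assoc _ _ _).trans ((congrArg _ h3).trans ?_)
  refine (Category.assoc _ _ _).trans ((congrArg _ (Category.assoc _ _ _).symm).trans ?_)
  rw [h4]
  refine ((congrArg _ (Category.assoc _ _ _)).trans (Category.assoc _ _ _).symm).trans ?_
  refine ((congrArg (fun t => t ≫ _) h5).trans (Category.id_comp _)).trans ?_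
  have h6 : adj₂.unit.app G = (BigSite.bigAdj Ke g (Type (u + 1))).unit.app G ≫
      PB.map ((iSAdj Ke S').unit.app P) := Adjunction.comp_unit_app _ _ _
  have h7 : e.hom.app (RT.obj P) = (pushResIso g Ke).hom.app (I.obj (RT.obj P)) ≫
      (EtDesc.pushSh g).map ((iSAdj Ke S').counit.app (RT.obj P)) := by
    simp [e, I, RT]
  have h8 : RS.map (PB.map ((iSAdj Ke S').unit.app P)) ≫ e.hom.app (RT.obj P) =
      (pushResIso g Ke).hom.app P := by
    rw [h7]
    refine ((Category.assoc _ _ _).symm.trans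
      (congrArg (fun t => t ≫ _) ((pushResIso g Ke).hom.naturality ((iSAdj Ke S').unit.app P)))).trans ?_
    refine (Category.assoc _ _ _).trans (Eq.trans (congrArg _ ?_) (Category.comp_id _))
    refine ((EtDesc.pushSh g).map_comp _ _).symm.trans ?_
    exact (congrArg _ ((iSAdj Ke S').left_triangle_components P)).trans ((EtDesc.pushSh g).map_id _)
  rw [h6, Functor.map_comp]
  exact (Category.assoc _ _ _).trans (congrArg _ h8)

section Square

variable {f : T ⟶ S} {g : S' ⟶ S} {g' : T' ⟶ T} {f' : T' ⟶ S'}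

/-- Direct images and restrictions to the small etale site of a scheme over the base. -/
noncomputable def resPushIso (c : IsPullback g' f' f g) (H : Sh Ke T) :
    (resAlongS Ke g).obj ((BigSite.pushBig Ke f (Type (u + 1))).obj H) ≅
      (EtDesc.pushSh f').obj ((resAlongS Ke g').obj H) :=
  (resS Ke S').mapIso ((pushPullIso Ke c).app H) ≪≫ (pushResIso f' Ke).app _

/-- Restriction maps of a big direct image. -/
theorem restrMap_pushBig (c : IsPullback g' f' f g) (H : Sh Ke T) :
    restrMap g ((BigSite.pushBig Ke f (Type (u + 1))).obj H) ≫ (EtDesc.pushSh g).map (resPushIso c H).hom =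
      (pushResIso f Ke).hom.app H ≫ (EtDesc.pushSh f).map (restrMap g' H) ≫
        (EtDesc.pushCompSh f g').hom.app _ ≫ (EtBC.pushCongrSh c.w).hom.app _ ≫ (EtDesc.pushCompSh g f').inv.app _ := by
  apply ObjectProperty.hom_ext
  ext U : 2
  simp [restrMap, resPushIso, pushResIso, pushPullIso, EtDesc.pushCompSh, EtBC.pushCongrSh, BigSite.bigAdj,
    Functor.sheafPushforwardContinuousComp', Functor.sheafPushforwardContinuousComp,
    Adjunction.sheafPushforwardContinuous, ← Functor.map_comp, ← op_comp]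
  congr 2
  apply Over.OverMorphism.ext
  apply pullback.hom_ext <;>
    simp [bcIso, bcObjIso, MorphismProperty.Over.pullbackCompForgetIso, MorphismProperty.Over.pullbackComp,
      MorphismProperty.Over.pullbackCongr, EtCoh.bc, IsPullback.isoPullback_hom_fst,
      IsPullback.isoPullback_hom_snd, IsPullback.isoPullback_hom_snd_assoc, IsPullback.isoPullback_hom_fst_assoc]
  all_goals erw [Category.id_comp]
  all_goals simp [pullback.map]
  · erw [pullbackLeftPullbackSndIso_inv_fst, pullback.lift_fst, pullbackLeftPullbackSndIso_hom_fst]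
    rfl
  · erw [pullbackLeftPullbackSndIso_inv_fst_snd, pullback.lift_snd_assoc, pullbackLeftPullbackSndIso_hom_snd_assoc]
    rfl

/-- An object of the big site as the top object of its own small etale site. -/
noncomputable def topOverIso (X : Over S) :
    (Over.map X.hom).obj ((EtFppf.a X.left).obj (EtCoh.top X.left)) ≅ X :=
  Over.isoMk (f := (Over.map X.hom).obj ((EtFppf.a X.left).obj (EtCoh.top X.left))) (g := X) (Iso.refl _)
    ((Category.id_comp _).trans (Category.id_comp _).symm)

/-- Isomorphisms of big etale sheaves are detected on all small etale sites. -/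
theorem isIso_of_resEtAlong {G G' : Sh Ke S} (φ : G ⟶ G')
    (h : ∀ (X : Over S), IsIso ((resAlongS Ke X.hom).map φ)) : IsIso φ := by
  refine (isIso_iff_of_reflects_iso φ (sheafToPresheaf (QuotSh.J Ke S) (Type (u + 1)))).1 ?_
  rw [NatTrans.isIso_iff_isIso_app]
  rintro ⟨X⟩
  haveI := h X
  haveI : IsIso (((resAlongS Ke X.hom).map φ).hom.app (op (EtCoh.top X.left))) :=
    inferInstanceAs (IsIso ((gsecS X.left).map ((resAlongS Ke X.hom).map φ)))
  haveI : IsIso (φ.hom.app (op ((Over.map X.hom).obj ((EtFppf.a X.left).obj (EtCoh.top X.left))))) := this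
  have e := φ.hom.naturality (topOverIso X).hom.op
  have e' : φ.hom.app (op X) = G.obj.map (topOverIso X).hom.op ≫
      φ.hom.app (op ((Over.map X.hom).obj ((EtFppf.a X.left).obj (EtCoh.top X.left)))) ≫
        inv (G'.obj.map (topOverIso X).hom.op) := by
    rw [← Category.assoc, IsIso.eq_comp_inv]
    exact e.symm
  show IsIso (φ.hom.app (op X))
  rw [e']
  infer_instance

/-- The restricted counit. -/
theorem restrMap_transpose (g : S' ⟶ S) (G : Sh Ke S) :
    ((EtDesc.adjSh g).homEquiv _ _).symm (restrMap g G) =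
      (resAlongPullIso g).inv.app ((resS Ke S).obj G) ≫
        (resAlongS Ke g).map ((piSAdj Ke S).counit.app G) := by
  rw [Equiv.symm_apply_eq]
  exact (homEquiv_resAlong_counit g G).symm

/-- The restricted counit of a big direct image is computed by base change. -/
theorem transpose_restrMap_pushBig (c : IsPullback g' f' f g) (H : Sh Ke T) :
    ((EtDesc.adjSh g).homEquiv _ _).symm
        (restrMap g ((BigSite.pushBig Ke f (Type (u + 1))).obj H)) ≫ (resPushIso c H).hom =
      (EtDesc.pullSh g).map ((pushResIso f Ke).hom.app H) ≫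
        EtBC.baseChange0Sh f g f' g' c.w ((resS Ke T).obj H) ≫
          (EtDesc.pushSh f').map (((EtDesc.adjSh g').homEquiv _ _).symm (restrMap g' H)) := by
  apply ((EtDesc.adjSh g).homEquiv _ _).injective
  let R := restrMap g' H
  let ĉ := ((EtDesc.adjSh g').homEquiv _ _).symm R
  let W := EtDesc.pushCompSh f g'
  let iso : EtDesc.pushSh g' ⋙ EtDesc.pushSh f ≅ EtDesc.pushSh f' ⋙ EtDesc.pushSh g :=
    W ≪≫ EtBC.pushCongrSh c.w ≪≫ (EtDesc.pushCompSh g f').symm
  rw [Adjunction.homEquiv_naturality_right, Equiv.apply_symm_apply, restrMap_pushBig c H,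
    Adjunction.homEquiv_naturality_left, Adjunction.homEquiv_naturality_right]
  refine congrArg (fun t => _ ≫ t) ?_
  simp only [EtBC.baseChange0Sh, Equiv.apply_symm_apply]
  have hR : (EtDesc.adjSh g').unit.app _ ≫ (EtDesc.pushSh g').map ĉ = R :=
    ((EtDesc.adjSh g').homEquiv_unit _ _ _).symm.trans (Equiv.apply_symm_apply _ R)
  have nat : (EtDesc.pushSh f).map ((EtDesc.pushSh g').map ĉ) ≫ iso.hom.app _ =
      iso.hom.app _ ≫ (EtDesc.pushSh g).map ((EtDesc.pushSh f').map ĉ) := iso.hom.naturality ĉ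
  have hiso : ∀ A, iso.hom.app A = (EtDesc.pushCompSh f g').hom.app A ≫ (EtBC.pushCongrSh c.w).hom.app A ≫
      (EtDesc.pushCompSh g f').inv.app A := fun A => by simp [iso, W]
  simp only [← hiso]
  refine Eq.trans ?_ (congrArg (fun t => t ≫ _) (Equiv.apply_symm_apply _ _).symm)
  show (EtDesc.pushSh f).map R ≫ iso.hom.app _ =
    ((EtDesc.pushSh f).map ((EtDesc.adjSh g').unit.app _) ≫ iso.hom.app _) ≫
      (EtDesc.pushSh g).map ((EtDesc.pushSh f').map ĉ)
  rw [← hR, Functor.map_comp]
  exact (Category.assoc _ _ _).trans ((congrArg _ nat).trans (Category.assoc _ _ _).symm)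

end Square

theorem isIso_piEtAdj_unit (G : EtDesc.Sh S) : IsIso ((piSAdj Ke S).unit.app G) := by
  haveI := isIso_iEtAdj_counit S
  let t : CategoryTheory.Adjunction.Triple (piS Ke S) (resS Ke S) (iS Ke S) :=
    ⟨piSAdj Ke S, iSAdj Ke S⟩
  haveI : IsIso t.adj₂.counit := inferInstanceAs (IsIso (iSAdj Ke S).counit)
  haveI : IsIso t.adj₁.unit := t.isIso_unit_iff_isIso_counit.2 inferInstance
  exact inferInstanceAs (IsIso (t.adj₁.unit.app G))

theorem isIso_counit_piEtPull (G : EtDesc.Sh S) :
    IsIso ((piSAdj Ke S).counit.app ((piS Ke S).obj G)) := by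
  haveI := isIso_piEtAdj_unit G
  haveI : IsIso ((piS Ke S).map ((piSAdj Ke S).unit.app G)) := inferInstance
  have h := (piSAdj Ke S).left_triangle_components G
  exact IsIso.of_isIso_fac_left h

/-- A big direct image of a sheaf pulled back from the small etale site is pulled back from the small
etale site if degree-zero base change holds. -/
theorem isIso_counit_pushBig (f : T ⟶ S)
    (hbc : ∀ {S' T' : Scheme.{u}} (g : S' ⟶ S) (g' : T' ⟶ T) (f' : T' ⟶ S') (c : IsPullback g' f' f g)
      (F : EtDesc.Sh T), IsIso (EtBC.baseChange0Sh f g f' g' c.w F))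
    (F : EtDesc.Sh T) :
    IsIso ((piSAdj Ke S).counit.app
      ((BigSite.pushBig Ke f (Type (u + 1))).obj ((piS Ke T).obj F))) := by
  apply isIso_of_resEtAlong
  intro X
  let H := (piS Ke T).obj F
  let g := X.hom
  have c : IsPullback (pullback.fst f g) (pullback.snd f g) f g := IsPullback.of_hasPullback f g
  haveI := isIso_counit_piEtPull (S := T) F
  haveI : IsIso (((EtDesc.adjSh (pullback.fst f g)).homEquiv _ _).symm (restrMap (pullback.fst f g) H)) := by
    rw [restrMap_transpose]
    infer_instance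
  haveI := hbc g (pullback.fst f g) (pullback.snd f g) c ((resS Ke T).obj H)
  haveI : IsIso (((EtDesc.adjSh g).homEquiv _ _).symm
      (restrMap g ((BigSite.pushBig Ke f (Type (u + 1))).obj H)) ≫ (resPushIso c H).hom) := by
    rw [transpose_restrMap_pushBig c H]
    infer_instance
  haveI := IsIso.of_isIso_comp_right (((EtDesc.adjSh g).homEquiv _ _).symm
      (restrMap g ((BigSite.pushBig Ke f (Type (u + 1))).obj H))) (resPushIso c H).hom
  rw [restrMap_transpose] at this
  exact IsIso.of_isIso_comp_left ((resAlongPullIso g).inv.app _) _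

/-- `π_S⁻¹ f_small,* ≅ f_big,* π_T⁻¹` if degree-zero base change holds. -/
noncomputable def piPushIso (f : T ⟶ S)
    (hbc : ∀ {S' T' : Scheme.{u}} (g : S' ⟶ S) (g' : T' ⟶ T) (f' : T' ⟶ S') (c : IsPullback g' f' f g)
      (F : EtDesc.Sh T), IsIso (EtBC.baseChange0Sh f g f' g' c.w F))
    (F : EtDesc.Sh T) :
    (piS Ke S).obj ((EtDesc.pushSh f).obj F) ≅
      (BigSite.pushBig Ke f (Type (u + 1))).obj ((piS Ke T).obj F) :=
  haveI := isIso_piEtAdj_unit (S := T) F
  haveI := isIso_counit_pushBig f hbc F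
  (piS Ke S).mapIso ((EtDesc.pushSh f).mapIso (asIso ((piSAdj Ke T).unit.app F)) ≪≫
      ((pushResIso f Ke).app ((piS Ke T).obj F)).symm) ≪≫
    asIso ((piSAdj Ke S).counit.app _)

end Groth.Agent.BigSiteSetLib
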