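import Groth.Agent.BigSiteLib.Basic
import Mathlib.Algebra.Category.Grp.AB

/-!
# Exactness of extension by zero along a morphism of schemes on big sites
-/

set_option autoImplicit false
set_option backward.isDefEq.respectTransparency false
set_option backward.isDefEq.respectTransparency.types false
set_option maxHeartbeats 800000
universe u

namespace Groth.Agent.BigSiteLib

open CategoryTheory Limits AlgebraicGeometry Opposite

variable {T S : Scheme.{u}} (f : T ⟶ S) (V : Over S)

/-- Lifts of an `S`-scheme to a `T`-scheme. -/
abbrev Lifts : Type u := {φ : V.left ⟶ T // φ ≫ f = V.hom}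

/-- The costructured arrow given by a lift. -/
noncomputable def liftObj (φ : Lifts f V) : CostructuredArrow (Over.map f).op (op V) :=
  CostructuredArrow.mk (Y := op (Over.mk φ.1))
    (Over.homMk (U := V) (V := (Over.map f).obj (Over.mk φ.1)) (𝟙 V.left)
      ((Category.id_comp _).trans φ.2)).op

/-- The lifts, as a discrete category over costructured arrows. -/
noncomputable def liftFunctor : Discrete (Lifts f V) ⥤ CostructuredArrow (Over.map f).op (op V) :=
  Discrete.functor (liftObj f V)

theorem final_liftFunctor : (liftFunctor f V).Final where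
  out d := by
    let W : Over T := d.left.unop
    let h : V ⟶ (Over.map f).obj W := d.hom.unop
    let φ₀ : Lifts f V := ⟨h.left ≫ W.hom, (Category.assoc _ _ _).trans (Over.w h)⟩
    let o : StructuredArrow d (liftFunctor f V) :=
      StructuredArrow.mk (Y := Discrete.mk φ₀)
        (CostructuredArrow.homMk (f := d) (f' := liftObj f V φ₀)
          (Over.homMk (U := Over.mk φ₀.1) (V := W) h.left rfl).op
          (Quiver.Hom.unop_inj (Over.OverMorphism.ext (Category.id_comp _))))
    haveI : Nonempty (StructuredArrow d (liftFunctor f V)) := ⟨o⟩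
    have key : ∀ x : StructuredArrow d (liftFunctor f V), x.right = Discrete.mk φ₀ := fun x => by
      have h1 : x.hom.left.unop.left = h.left :=
        (Category.id_comp _).symm.trans (congrArg (fun m => m.unop.left) (CostructuredArrow.w x.hom))
      have h2 : (Over.mk x.right.as.1 : Over T).hom = φ₀.1 :=
        (Over.w x.hom.left.unop).symm.trans (congrArg (· ≫ W.hom) h1)
      exact Discrete.ext (Subtype.ext h2)
    have uniq : ∀ x : StructuredArrow d (liftFunctor f V), Zigzag x o := fun x => by
      obtain ⟨-, r, m⟩ := x
      obtain rfl : r = Discrete.mk φ₀ := key (StructuredArrow.mk m)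
      refine Relation.ReflTransGen.single (Or.inl ⟨StructuredArrow.homMk (𝟙 _) ?_⟩)
      rw [CategoryTheory.Functor.map_id, Category.comp_id]
      apply CostructuredArrow.hom_ext
      apply Quiver.Hom.unop_inj
      apply Over.OverMorphism.ext
      have hm : (m.left.unop.left : V.left ⟶ W.left) = h.left :=
        (Category.id_comp _).symm.trans (congrArg (fun m => m.unop.left) (CostructuredArrow.w m))
      exact hm
    exact zigzag_isConnected fun x y => (uniq x).trans ((uniq y).symm)

theorem preservesFiniteLimits_lan_overMap :
    PreservesFiniteLimits ((Over.map f).op.lan : _ ⥤ (Over S)ᵒᵖ ⥤ AddCommGrpCat.{u + 1}) := by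
  apply preservesFiniteLimits_of_preservesFiniteLimitsOfSize.{0}
  intro J _ _
  apply preservesLimitsOfShape_of_evaluation
    ((Over.map f).op.lan : _ ⥤ (Over S)ᵒᵖ ⥤ AddCommGrpCat.{u + 1}) J
  intro K
  haveI := final_liftFunctor f K.unop
  haveI : HasExactColimitsOfShape (Discrete (ULift.{u + 1} (Lifts f K.unop))) AddCommGrpCat.{u + 1} :=
    AB4OfSize.ofShape _
  haveI : HasExactColimitsOfShape (Discrete (Lifts f K.unop)) AddCommGrpCat.{u + 1} :=
    HasExactColimitsOfShape.of_domain_equivalence _ (Discrete.equivalence Equiv.ulift)
  haveI : PreservesFiniteLimits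
      (colim (J := CostructuredArrow (Over.map f).op K) (C := AddCommGrpCat.{u + 1})) := by
    haveI : PreservesFiniteLimits (colim (J := Discrete (Lifts f K.unop)) (C := AddCommGrpCat.{u + 1})) :=
      HasExactColimitsOfShape.preservesFiniteLimits
    exact preservesFiniteLimits_of_natIso
      (Functor.Final.colimIso (E := AddCommGrpCat.{u + 1}) (liftFunctor f K.unop))
  exact preservesLimitsOfShape_of_natIso (lanEvalIsoColim (E := AddCommGrpCat.{u + 1}) (Over.map f).op K).symm

theorem preservesFiniteLimits_shriekAb (K : Precoverage Scheme.{u}) :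
    PreservesFiniteLimits (BigSite.shriekAb K f) := by
  haveI := preservesFiniteLimits_lan_overMap f
  haveI : PreservesFiniteLimits ((Over.map f).op.lan ⋙
      presheafToSheaf (QuotSh.J K S) AddCommGrpCat.{u + 1}) := comp_preservesFiniteLimits _ _
  haveI : PreservesFiniteLimits (sheafToPresheaf (QuotSh.J K T) AddCommGrpCat.{u + 1} ⋙
      (Over.map f).op.lan ⋙ presheafToSheaf (QuotSh.J K S) AddCommGrpCat.{u + 1}) :=
    comp_preservesFiniteLimits _ _
  exact preservesFiniteLimits_of_natIso (Functor.sheafPullbackConstruction.sheafPullbackIso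
    (Over.map f) AddCommGrpCat.{u + 1} (QuotSh.J K T) (QuotSh.J K S)).symm

theorem injective_pullBig (K : Precoverage Scheme.{u}) (I : BigSite.Ab K S) [Injective I] :
    Injective ((BigSite.pullBig K f AddCommGrpCat.{u + 1}).obj I) :=
  haveI := preservesFiniteLimits_shriekAb f K
  Injective.injective_of_adjoint (BigSite.shriekAbAdj K f) I

end Groth.Agent.BigSiteLib
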